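import Cfsg.Agent.Lib.SnCh.Idx
import Cfsg.Agent.Lib.PGroup.Basic

/-! A character of degree `p` of the Sylow subgroups of symmetric and alternating groups. -/

set_option autoImplicit false
set_option maxHeartbeats 400000

namespace Cfsg.Lib.SnCh

open Equiv Subgroup Cfsg.Lib.PGroup

theorem exists_deg_p {α : Type*} [DecidableEq α] [Fintype α] {p : ℕ} [hp : Fact p.Prime] {P N : Subgroup (Perm α)}
    [N.Normal] (hP : IsPGroup p P) {A : Finset α} (h1 : ∀ y ∈ P, ∀ x ∉ A, y x = x)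
    (h2 : ∀ Q : Subgroup (Perm α), IsPGroup p Q → (∀ y ∈ Q, ∀ x ∉ A, y x = x) → Nat.card Q ≤ Nat.card P)
    (h3 : ∃ y ∈ P, y ^ p ≠ 1) (h4 : ∀ g ∈ P, ∀ x x', ∃ t ∈ P, t x = x ∧ t x' = x' ∧ g * t ∈ N) :
    ∃ φ : IrrCharacter (P.subgroupOf N), charDegree (φ : P.subgroupOf N → ℂ) = p := by
  classical
  obtain ⟨y, hy, y1⟩ := h3
  obtain ⟨x, hx⟩ : ∃ x, (y ^ p) x ≠ x := not_forall.1 fun h => y1 (Equiv.ext h)
  let K := MulAction.stabilizer P x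
  have hK : ∀ {g : P}, g.1 x = x → g ∈ K := fun h => h
  obtain ⟨e, he⟩ := hP.exists_card_eq
  obtain ⟨a, ha⟩ := (hP.to_subgroup K).exists_card_eq
  have lt : a + 2 ≤ e := by
    obtain ⟨H, l, _, i⟩ := exists_normal_index_eq_of_ne_top hP (H := K) fun h =>
      hx (show (⟨y, hy⟩ : P) ^ p ∈ K from h ▸ mem_top _)
    have := Nat.mul_lt_mul_of_pos_left (Core.card_lt_card_of_lt (l.lt_of_ne fun h =>
      hx (show (⟨y, hy⟩ : P) ^ p ∈ K from h ▸ i ▸ H.pow_index_mem _))) hp.out.pos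
    rwa [← i, H.index_mul_card, i, ha, he, ← pow_succ', Nat.pow_lt_pow_iff_right hp.out.one_lt] at this
  obtain ⟨e, rfl⟩ := Nat.exists_eq_add_of_le' (le_add_self.trans lt)
  obtain ⟨H2, c2, l2⟩ := Sylow.exists_subgroup_card_pow_prime_le p (m := e) (he ▸ pow_dvd_pow p (by omega)) K ha (by omega)
  have i2 : H2.index = p ^ 2 := Nat.eq_of_mul_eq_mul_left (pow_pos hp.out.pos e) (by
    rw [← pow_add, ← he, ← c2, card_mul_index])
  obtain ⟨H1, l1, n1, i1⟩ := exists_normal_index_eq_of_ne_top hP (H := H2) fun h =>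
    (Nat.one_lt_pow two_ne_zero hp.out.one_lt).ne (by rw [← i2, h, index_top])
  obtain ⟨h, m1, m2⟩ := SetLike.exists_of_lt (l1.lt_of_ne fun h => by
    have := hp.out.one_lt
    rw [h, i1] at i2; nlinarith)
  obtain ⟨d, -, hd⟩ := SetLike.exists_of_lt (lt_top_iff_ne_top.2 fun h : H1 = ⊤ => hp.out.one_lt.ne (by
    rw [← i1, h, index_top]))
  let W : Subgroup (Perm α) := ⟨⟨⟨{y | ∀ x, ∃ h ∈ H1, ∀ k ∈ H1, y (k.1 x) = h.1 (k.1 x)}, fun {a b} ha hb x => by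
    obtain ⟨u, u1, u2⟩ := ha x
    obtain ⟨v, v1, v2⟩ := hb x
    exact ⟨u * v, mul_mem u1 v1, fun k hk => by simpa [v2 k hk] using u2 _ (mul_mem v1 hk)⟩⟩,
    fun x => ⟨1, one_mem _, fun _ _ => rfl⟩⟩, fun {a} ha x => by
    obtain ⟨u, u1, u2⟩ := ha x
    exact ⟨u⁻¹, inv_mem u1, fun k hk => Perm.inv_eq_iff_eq.2 (by simpa using (u2 _ (mul_mem (inv_mem u1) hk)).symm)⟩⟩
  have pW : IsPGroup p W := fun y => ⟨e + 2, Subtype.ext (Equiv.ext fun x => by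
    obtain ⟨u, u1, u2⟩ := y.2 x
    have : ∀ j, (y.1 ^ j) x = (u ^ j).1 x := fun j => by
      induction j with
      | zero => rfl
      | succ j ih => rw [pow_succ', pow_succ', Perm.mul_apply, ih, u2 _ (pow_mem u1 j)]; rfl
    simpa [← he, pow_card_eq_one'] using this (p ^ (e + 2)))⟩
  have WP : W ≤ P := le_sup_left.trans (eq_of_le_of_card_ge le_sup_right (h2 _ (pW.to_sup_of_normal_left' hP
    fun g hg => mem_normalizer_fintype fun y hy x => by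
      obtain ⟨u, u1, u2⟩ := hy (g⁻¹ x)
      exact ⟨_, n1.conj_mem u u1 ⟨g, hg⟩, fun k hk => by simpa using u2 _ (n1.conj_mem' k hk ⟨g, hg⟩)⟩)
    fun y hy x hx => (sup_le (c := MulAction.stabilizer (Perm α) x) (fun y hy => by
      obtain ⟨u, -, u2⟩ := hy x
      exact (u2 1 (one_mem _)).trans (h1 _ u.2 x hx)) fun y hy => h1 y hy x hx) hy)).ge
  have O : ∀ k ∈ H1, ∀ u, (∃ l ∈ H1, l.1 x = k.1 u) ↔ ∃ l ∈ H1, l.1 x = u := fun k hk u =>
    ⟨fun ⟨l, a, b⟩ => ⟨k⁻¹ * l, mul_mem (inv_mem hk) a, by simp [b]⟩, fun ⟨l, a, b⟩ => ⟨k * l, mul_mem hk a, by simp [b]⟩⟩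
  obtain ⟨y, yP, b, y0⟩ : ∃ y ∈ P, y x = h.1 x ∧ ∀ u, (¬ ∃ l ∈ H1, l.1 x = u) → y u = u :=
    ⟨Perm.ofSubtype (h.1.subtypePerm (p := fun u => ∃ l ∈ H1, l.1 x = u) (O h m1)),
      WP fun u => (em (∃ l ∈ H1, l.1 x = u)).elim
        (fun c => ⟨h, m1, fun k hk => Perm.ofSubtype_subtypePerm_of_mem _ ((O k hk u).2 c)⟩)
        fun c => ⟨1, one_mem _, fun k hk => Perm.ofSubtype_subtypePerm_of_not_mem _ (mt (O k hk u).1 c)⟩,
      Perm.ofSubtype_subtypePerm_of_mem _ ⟨1, one_mem _, rfl⟩, fun u c => Perm.ofSubtype_subtypePerm_of_not_mem _ c⟩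
  clear WP pW W O
  let ι : P.subgroupOf N →* P := (N.subtype.comp (Subgroup.subtype _)).codRestrict P fun g => g.2
  have := Fintype.ofFinite (P.subgroupOf N)
  refine exists_degree_eq hP.comap_subtype (H := H2.comap ι) ?_ fun n => ?_
  · have r : ι.range = N.subgroupOf P := by
      ext g; exact ⟨fun ⟨u, e⟩ => e ▸ u.1.2, fun m => ⟨⟨⟨g, m⟩, g.2⟩, rfl⟩⟩
    have s : H2 ⊔ N.subgroupOf P = ⊤ := eq_top_iff.2 fun g _ => by
      obtain ⟨t, t1, t2, -, t3⟩ := h4 g g.2 x x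
      exact (mul_mem_cancel_right (mem_sup_left (l2 (hK (g := ⟨t, t1⟩) t2)))).1 (mem_sup_right t3)
    rw [index_comap, r, ← i2]
    apply Nat.eq_of_mul_eq_mul_right (Nat.pos_of_ne_zero (index_ne_zero_of_finite (H := N.subgroupOf P)))
    rw [← inf_relIndex_right, relIndex_mul_index inf_le_right, ← relIndex_mul_index inf_le_left, inf_relIndex_left,
      ← relIndex_sup_right, s, relIndex_top_right, mul_comm]
  obtain ⟨t, t1, t2, -, t3⟩ := h4 d d.2 x x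
  obtain ⟨s, s1, s2, s3, s4⟩ := h4 y yP x (d.1 x)
  have a := y0 (d.1 x) fun ⟨l, a, b⟩ => hd ((mul_mem_cancel_left (inv_mem a)).1 (l1 (l2 (hK (by simp [← b])))))
  have := n.conj_mem ⟨⟨(d * t)⁻¹ * (y * s) * (d * t), mul_mem (mul_mem (inv_mem t3) s4) t3⟩,
    mul_mem (mul_mem (inv_mem (mul_mem d.2 t1)) (mul_mem yP s1)) (mul_mem d.2 t1)⟩
    (l2 (hK (show (d * t)⁻¹ (y (s (d.1 (t x)))) = x by rw [t2, s3, a, Perm.inv_eq_iff_eq, Perm.mul_apply, t2])))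
    ⟨⟨_, t3⟩, mul_mem d.2 t1⟩
  refine m2 (inv_mem_iff.1 ((mul_mem_cancel_right (mem_comap.1 this)).1 (l2 (hK ?_))))
  change (h.1⁻¹ * (d * t * ((d * t)⁻¹ * (y * s) * (d * t)) * (d * t)⁻¹) : Perm α) x = x
  simp [mul_assoc, s2, b]

end Cfsg.Lib.SnCh
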