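import Cfsg.Agent.Lib.SnCh.Sub
import Cfsg.Agent.Lib.SnCh.DegP

/-! Blocks of the alternating groups. -/

set_option autoImplicit false
set_option maxHeartbeats 400000

namespace Cfsg.Lib.SnCh

open Finset Equiv Cfsg.Lib.Char Cfsg.Lib.Block Cfsg.Lib.Modular Subgroup Function

variable {p : ℕ} [hp : Fact p.Prime] {N w : ℕ}

theorem fact_step (m : ℕ) {r : ℕ} (h : r < p) :
    (p * m + r).factorial.factorization p = m + m.factorial.factorization p := by
  rw [Nat.factorization_def _ hp.out, Nat.factorization_def _ hp.out, padicValNat_factorial_mul_add m h,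
    padicValNat_factorial_mul, add_comm]

theorem fact_lt (h : w < p) : w.factorial.factorization p = 0 := by simpa using fact_step (p := p) 0 h

/-- `w` is a sum of `q` numbers with exactly one carry. -/
def Carry (p q w : ℕ) : Prop :=
  ∃ a : Fin q → ℕ, ∑ i, a i = w ∧ ∑ i, (a i).factorial.factorization p + 1 = w.factorial.factorization p

theorem Carry.step {q : ℕ} (h : Carry p (q + 1) (w / p)) : Carry p (q + 1) w := by
  obtain ⟨a, h1, h2⟩ := h
  have l := Nat.mod_lt w hp.out.pos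
  refine ⟨fun i => p * a i + if i = 0 then w % p else 0, by simp [sum_add_distrib, ← mul_sum, h1, Nat.div_add_mod], ?_⟩
  rw [sum_congr rfl fun i _ => fact_step (a i) (by split_ifs <;> omega), sum_add_distrib, h1, add_assoc, h2,
    ← fact_step _ l, Nat.div_add_mod]

theorem carry_three (h2 : p ≠ 2) (h : p ≤ w) : Carry p 3 w := by
  induction w using Nat.strong_induction_on with | _ w ih => ?_
  have := hp.out.two_le
  have l := Nat.mod_lt w hp.out.pos
  rcases le_or_gt p (w / p) with c | c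
  · exact (ih _ (Nat.div_lt_self (by omega) this) c).step
  obtain ⟨m, hm⟩ := Nat.exists_eq_succ_of_ne_zero (Nat.div_pos h hp.out.pos).ne'
  have e := Nat.div_add_mod w p
  rw [hm, Nat.succ_eq_add_one, mul_add_one] at e
  refine ⟨![p * m + (p - 1), 1, w % p], by simp [Fin.sum_univ_three]; omega, ?_⟩
  rw [← Nat.div_add_mod w p, fact_step _ l, fact_lt c, hm]
  simp [Fin.sum_univ_three, fact_step m (show p - 1 < p by omega), fact_lt l, fact_lt (show m < p by omega)]

theorem carry_two (h : 2 ≤ w) (h4 : w % 4 ≠ 3) : Carry 2 2 w := by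
  induction w using Nat.strong_induction_on with | _ w ih => ?_
  by_cases c : w % 4 = 2
  · obtain ⟨m, rfl⟩ : ∃ m, w = 2 * (2 * m + 1) + 0 := ⟨w / 4, by omega⟩
    refine ⟨![2 * (2 * m + 0) + 1, 1], by simp; omega, ?_⟩
    simp only [Fin.sum_univ_two, Matrix.cons_val_zero, Matrix.cons_val_one, fact_step _ one_lt_two, fact_step _ two_pos]
    simp; omega
  · exact (ih _ (by omega) (by omega) (by omega)).step

variable {M : Ideal AlgInt} [Modular p M] {β κ : Fin N → ℕ}
  {α : Type*} [DecidableEq α] [Fintype α] {z : Perm α} {ψ : IrrCharacter (Perm α)}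

omit hp in
theorem sign_two : Perm.sign (MulAction.toPerm (Multiplicative.ofAdd (1 : ZMod 2)) : Perm (Multiplicative (ZMod 2))) ≠ 1 := by
  decide

namespace Dat
variable (h : Dat p α κ w)
include h

theorem apply_ne_zero (hψ : ψ ∈ Cl p α κ) (hz : z.cycleType = .replicate w p) : (ψ : Perm α → ℂ) z ≠ 0 := by
  obtain ⟨β, a, b⟩ := hψ
  obtain ⟨c, h1, h2, -⟩ := h.val a b
  obtain ⟨m, h3, h4⟩ := h.exists_sum
  obtain ⟨t, h5, h6⟩ := b.exists_eq h.hN
  rw [h6, ch, typ_eq, hz, h2, h4, Multiset.sum_replicate, smul_eq_mul, mul_comm w, add_tsub_cancel_left]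
  refine mul_ne_zero (left_ne_zero_of_mul_eq_one h5) (mul_ne_zero ?_ (xv_one_ne_zero h.core.1 h3))
  rw [Int.cast_ne_zero]; rintro rfl; exact w.factorial_ne_zero (by simpa using h1)

omit hp [DecidableEq α] in
theorem exists_bead {r : ℕ} (hr : r ≤ p) : ∃ j, κ j = r := by
  obtain ⟨m, h1, h2⟩ := h.exists_sum
  exact fill (xv_one_ne_zero h.core.1 h1) (by have := h.le; simp; omega)

include M in
theorem exists_ht (e : ∀ j, β j % p = κ j % p) {c : ℚ} (hc : c ≠ 0)
    (hv : ∀ ρ, xv β (.replicate w p + ρ) = c * xv κ ρ) : ∃ ψ : IrrCharacter (Perm α), Lab β ψ ∧ ∃ d : ℕ, d = |c| ∧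
      blockHeight p (Cl p α κ) (ψ : Perm α → ℂ) = d.factorization p := by
  obtain ⟨m, h1, h2⟩ := h.exists_sum
  obtain ⟨g, hg⟩ := exists_typ (α := α) (μ := .replicate w p + .replicate m 1)
    (by simp [Multiset.mem_replicate, hp.out.pos.ne]) (by simp [h2, mul_comm])
  have n := xv_one_ne_zero h.core.1 h1
  obtain ⟨ψ, l⟩ := exists_lab (α := α) (β := β) (ne_iff.2 ⟨g, by
    rw [ch, hg, hv]; exact mul_ne_zero (Rat.cast_ne_zero.2 hc) n⟩)
  obtain ⟨d, -, h3, h4⟩ := h.height (M := M) e l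
  obtain rfl : (d : ℚ) = c := by exact_mod_cast mul_right_cancel₀ n ((h3 _).symm.trans (hv _))
  exact ⟨ψ, l, _, by simp, h4⟩

include M in
theorem exists_row {q : ℕ} (hq : q ≤ p) (hc : Carry p q w) : ∃ ψ ∈ Cl p α κ,
    blockHeight p (Cl p α κ) (ψ : Perm α → ℂ) = 1 ∧ ∀ v, w = v + 2 → q < w → ∃ g, (ψ : Perm α → ℂ) g ≠ 0 ∧
      Perm.sign g = (-1) ^ (p * w + v + 1) := by
  obtain ⟨a, h1, h2⟩ := hc
  choose j hj using fun i : Fin q => h.exists_bead (r := i) (by omega)
  choose t h3 h4 using fun i => exists_top p κ (j i)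
  have it : Injective t := fun i i' e => Fin.ext (by
    have := (h3 i).symm.trans (e ▸ h3 i')
    rwa [hj, hj, Nat.mod_eq_of_lt (by omega), Nat.mod_eq_of_lt (by omega)] at this)
  have z : ∀ j ∉ Set.range t, extend t a 0 j = 0 := fun j l => extend_apply' _ _ _ l
  have ha : ∀ j, extend t a 0 j ≠ 0 → Top p κ j := fun j l => by
    obtain ⟨i, rfl⟩ := not_not.1 (mt (z j) l)
    exact h4 i
  have hs : ∑ j, extend t a 0 j = w := h1 ▸ (Fintype.sum_of_injective t it _ _ z fun i => (it.extend_apply _ _ i).symm).symm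
  obtain ⟨ψ, l, d, e1, e2⟩ := h.exists_ht (M := M) (β := fun i => κ i + p * extend t a 0 i) (by simp) (by positivity)
    fun ρ => h.core.row_val hp.out.pos ha hs
  refine ⟨ψ, ⟨_, by simp, l⟩, ?_, fun v e lt => ?_⟩
  · rw [← Fintype.prod_of_injective t it (fun i => (a i).factorial) _ (fun j l => by simp [z j l])
      fun i => by rw [it.extend_apply], abs_of_pos (by positivity), eq_div_iff (by positivity)] at e1
    have e3 : d * ∏ i, (a i).factorial = w.factorial := by exact_mod_cast e1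
    have := mul_ne_zero_iff.1 (e3 ▸ w.factorial_ne_zero)
    rw [← e3, Nat.factorization_mul this.1 this.2, Finsupp.add_apply,
      Nat.factorization_prod_apply fun _ _ => Nat.factorial_ne_zero _] at h2
    omega
  obtain ⟨m, h5, h6⟩ := h.exists_sum
  obtain ⟨g, hg⟩ := exists_typ (α := α) (μ := p * 2 ::ₘ (.replicate v p + .replicate m 1))
    (by simp [Multiset.mem_replicate, hp.out.pos.ne, hp.out.pos.ne']) (by simp [h6, e]; ring)
  obtain ⟨i, hi⟩ : ∃ i, 2 ≤ a i := by_contra fun n => by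
    have := sum_le_card_nsmul univ a 1 fun i _ => by have := not_exists.1 n i; omega
    rw [h1] at this; simp at this; omega
  obtain ⟨s, h7, h8⟩ := l.exists_eq h.hN
  refine ⟨g, ?_, ?_⟩
  · rw [h8, ch, hg]
    exact mul_ne_zero (left_ne_zero_of_mul_eq_one h7) (h.core.row_two hp.out.pos ha (hs.trans e) (j := t i)
      (by rwa [it.extend_apply]) (xv_one_ne_zero h.core.1 h5))
  · rw [sign_typ, typ_sum, hg, h6, show p * w + m + _ = p * w + v + 1 + 2 * m by simp; ring, pow_add _ _ (2 * m)]; simp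

include M in
theorem exists_hook (hw : 2 ≤ w) : ∃ ψ ∈ Cl p α κ,
    blockHeight p (Cl p α κ) (ψ : Perm α → ℂ) = (w - 1).factorization p := by
  obtain ⟨v, rfl⟩ := Nat.exists_eq_succ_of_ne_zero (show w ≠ 0 by omega)
  obtain ⟨j, hj⟩ := h.exists_bead le_rfl
  obtain ⟨t, h1, h2⟩ := exists_top p κ j
  obtain ⟨s, hs⟩ := h.core.2 t (hj ▸ h2 j h1.symm)
  obtain ⟨ψ, l, d, e1, e2⟩ := h.exists_ht (M := M) (c := v) (β := fun i => κ i + p * (Pi.single t v + Pi.single s 1 :
    Fin N → ℕ) i) (by simp) (Nat.cast_ne_zero.2 (by omega)) fun ρ => by simpa using h.core.hook_val hp.out.pos h2 hs v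
  exact ⟨ψ, ⟨_, by simp, l⟩, by rw [e2, show d = v by simpa using e1]; rfl⟩

include M in
theorem exists_height_one (h1 : p ≤ w) (h2 : 3 ≤ w) : ∃ ψ ∈ Cl p α κ, blockHeight p (Cl p α κ) (ψ : Perm α → ℂ) = 1 ∧
    (p = 2 → ∃ g ∉ alternatingGroup α, (ψ : Perm α → ℂ) g ≠ 0) := by
  by_cases e : p = 2
  swap
  · obtain ⟨ψ, a, b, -⟩ := h.exists_row (M := M) (by have := hp.out.two_le; omega) (carry_three e h1)
    exact ⟨ψ, a, b, (absurd · e)⟩
  subst e
  obtain ⟨z, hz⟩ := h.exists_z
  have o : w % 2 = 1 → z ∉ alternatingGroup α := fun o => by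
    rw [Perm.mem_alternatingGroup, Perm.sign_of_cycleType, hz, Odd.neg_one_pow (by simp [Nat.odd_iff]; omega)]; decide
  by_cases e : w % 4 = 3
  · obtain ⟨ψ, a, b⟩ := h.exists_hook (M := M) (by omega)
    refine ⟨ψ, a, ?_, fun _ => ⟨z, o (by omega), h.apply_ne_zero a hz⟩⟩
    rw [b, show w - 1 = 2 * (2 * (w / 4) + 1) by omega, Nat.factorization_mul two_ne_zero (by omega), Finsupp.add_apply,
      Nat.prime_two.factorization_self, Nat.factorization_eq_zero_of_not_dvd (by omega)]
  obtain ⟨ψ, a, b, c⟩ := h.exists_row (M := M) le_rfl (carry_two h1 e)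
  refine ⟨ψ, a, b, fun _ => (Nat.mod_two_eq_zero_or_one w).elim (fun e => ?_) fun e => ⟨z, o e, h.apply_ne_zero a hz⟩⟩
  obtain ⟨g, h3, h4⟩ := c (w - 2) (by omega) h2
  exact ⟨g, by rw [Perm.mem_alternatingGroup, h4, Odd.neg_one_pow (by rw [Nat.odd_iff]; omega)]; decide, h3⟩

theorem exists_odd {P : Subgroup (Perm α)} (hP : IsDefectGroup p M (Cl p α κ) P) (e : p = 2) :
    ∃ t : Fin w → Perm α, (∀ i, t i ∈ P ∧ t i ∉ alternatingGroup α) ∧
      ∀ x, ∃ S : Finset (Fin w), #S ≤ 1 ∧ ∀ i ∉ S, t i x = x := by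
  subst e
  obtain ⟨φ, ⟨-, h1, h2⟩, h3⟩ := h.exists_elem hP
  refine ⟨fun i => φ (Pi.mulSingle i (.ofAdd 1)), fun i => ⟨h3 _, ?_⟩, fun x => (h2 x).imp fun S a =>
    ⟨a.1, fun i hi => a.2 _ fun j hj => Pi.mulSingle_eq_of_ne (by rintro rfl; exact hi hj) _⟩⟩
  rw [Perm.mem_alternatingGroup, h1, Fintype.prod_eq_single i fun j hj => by
    rw [Pi.mulSingle_eq_of_ne hj]; exact (congrArg _ (Equiv.ext fun _ => one_mul _)).trans (map_one _), Pi.mulSingle_eq_same]
  exact sign_two

theorem exists_deg {P : Subgroup (Perm α)} (hP : IsDefectGroup p M (Cl p α κ) P) (h1 : p ≤ w) (h2 : 3 ≤ w)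
    (h3 : p ≠ 2 → P ≤ alternatingGroup α) : ∃ φ : IrrCharacter (P.subgroupOf (alternatingGroup α)),
      charDegree (φ : P.subgroupOf (alternatingGroup α) → ℂ) = p := by
  obtain ⟨z, hz, a⟩ := h.exists_supp hP
  refine exists_deg_p hP.isPGroup a (fun Q b c => (h.isPBlock M).card_le_of_br_ne_zero hP b (h.br_ne_zero hz c)) ?_
    fun g hg x x' => ?_
  · have : NeZero (p ^ 2) := ⟨pow_ne_zero _ hp.out.ne_zero⟩
    obtain ⟨φ, ⟨b, -⟩, c⟩ := h.exists_reg (V := Multiplicative (ZMod (p ^ 2))) (k := 1) hP (.of_card (n := 2) (by simp))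
      (by simpa [sq] using Nat.mul_le_mul_left p h1)
    refine ⟨_, c fun _ => .ofAdd 1, fun e => ?_⟩
    have := congrFun (b ((map_pow φ _ _).trans (e.trans (map_one φ).symm))) 0
    have := (ZMod.natCast_eq_zero_iff p (p ^ 2)).1 (by simpa [← ofAdd_nsmul] using this)
    exact absurd ((Nat.pow_dvd_pow_iff_le_right hp.out.one_lt (l := 1)).1 (by simpa)) (by omega)
  by_cases l : g ∈ alternatingGroup α
  · exact ⟨1, one_mem _, rfl, rfl, by simpa⟩
  obtain ⟨t, b, c⟩ := h.exists_odd hP (by_contra fun e => l (h3 e hg))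
  obtain ⟨S, d, e⟩ := c x
  obtain ⟨S', d', e'⟩ := c x'
  obtain ⟨i, -, hi⟩ := exists_mem_notMem_of_card_lt_card (s := S ∪ S') (t := univ)
    ((card_union_le _ _).trans_lt (by simp; omega))
  refine ⟨t i, (b i).1, e i fun f => hi (mem_union_left _ f), e' i fun f => hi (mem_union_right _ f), ?_⟩
  have := (b i).2
  rw [Perm.mem_alternatingGroup] at this l ⊢
  rw [map_mul, (Int.units_eq_one_or _).resolve_left l, (Int.units_eq_one_or _).resolve_left this]; decide

end Dat

variable {b : Set (IrrCharacter (alternatingGroup α))} {D : Subgroup (alternatingGroup α)}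

theorem exists_alt (hb : IsPBlock M b) (hD : IsDefectGroup p M b D) (h1 : D ≠ ⊥) : (alternatingGroup α).index = 2 ∧
    ∃ (N : ℕ) (κ : Fin N → ℕ) (w : ℕ) (P : Subgroup (Perm α)), Dat p α κ w ∧
      Covers (alternatingGroup α).subtype (Cl p α κ) b ∧ IsDefectGroup p M (Cl p α κ) P ∧ P.subgroupOf _ = D ∧
        (p ≠ 2 → P ≤ alternatingGroup α) ∧ blockDefect p b + (2).factorization p = w + w.factorial.factorization p := by
  have : Nontrivial α := not_subsingleton_iff_nontrivial.1 fun _ => h1 (Subsingleton.elim _ _)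
  have i := alternatingGroup.index_eq_two (α := α)
  obtain ⟨B, hB, c⟩ := hb.exists_covers (alternatingGroup α).subtype_injective
  obtain ⟨N, κ, w, h, rfl⟩ := exists_dat (p := p) hB
  obtain ⟨P, h2, h3, h4⟩ := exists_defect hB hb c hD
  rw [h.defect (M := M)] at h4
  have d := (Nat.dvd_prime Nat.prime_two).1 (i ▸ relIndex_dvd_index_of_normal (alternatingGroup α) P)
  have o : p ≠ 2 → (alternatingGroup α).relIndex P = 1 := fun e => d.resolve_right fun l =>
    e ((Nat.prime_dvd_prime_iff_eq Nat.prime_two hp.out).1 (Nat.prime_two.dvd_of_dvd_pow ⟨_, l ▸ h4⟩)).symm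
  refine ⟨i, N, κ, w, P, h, c, h2, h3, fun e => relIndex_eq_one.1 (o e), ?_⟩
  apply Nat.pow_right_injective hp.out.two_le
  by_cases e : p = 2
  · obtain ⟨t, a, -⟩ := h.exists_odd h2 e
    have := (hb.blockDefect_eq_zero_iff hD).not.2 h1
    have l : 0 < w := Nat.pos_of_ne_zero fun l => by
      have := Nat.pow_dvd_pow_iff_le_right hp.out.one_lt |>.1 (Dvd.intro_left _ h4.symm)
      simp [l] at this; omega
    rw [d.resolve_left fun f => (a ⟨0, l⟩).2 (relIndex_eq_one.1 f (a _).1)] at h4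
    subst e
    simp only [h4, Nat.prime_two.factorization_self, pow_succ']
  · simp [h4, o e, Nat.prime_two.factorization, Finsupp.single_eq_of_ne e]

theorem height_res {G : Type*} [Group G] [Fintype G] {K : Subgroup G} [K.Normal] [Fintype K] (hK : K.index = 2)
    {B : Set (IrrCharacter G)} {b : Set (IrrCharacter K)} (hd : blockDefect p b + (2).factorization p = blockDefect p B)
    {χ : IrrCharacter G} (hχ : χ ∈ B) {θ : IrrCharacter K} (hθ : θ ∈ b)
    (h : classInner (fun n : K => (χ : G → ℂ) n) θ ≠ 0) (h2 : p = 2 → ∃ g ∉ K, (χ : G → ℂ) g ≠ 0) :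
    blockHeight p b (θ : K → ℂ) = blockHeight p B (χ : G → ℂ) := by
  have a := factorization_degree_add_defect (p := p) hχ
  have c := factorization_degree_add_defect (p := p) hθ
  rw [← K.index_mul_card, hK, Nat.factorization_mul two_ne_zero Nat.card_pos.ne', Finsupp.add_apply] at a
  rcases idx2 hK χ.2 θ.2 h with e | ⟨e, f⟩
  · rw [show charDegree (χ : G → ℂ) = charDegree (θ : K → ℂ) from e ▸ rfl] at a; omega
  · have : p ≠ 2 := fun l => (h2 l).elim fun g a => a.2 (e g a.1)
    rw [f, Nat.factorization_mul two_ne_zero (charDegree_ne_zero θ.2), Finsupp.add_apply] at a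
    rw [Nat.prime_two.factorization, Finsupp.single_eq_of_ne this] at a hd; omega

theorem three_le {d : ℕ} (h : d + (2).factorization p = w + w.factorial.factorization p) (h1 : w < 3) (h2 : d ≠ 0) :
    d = w ∧ (p = 2 → w = 2) := by
  by_cases e : p = 2
  · subst e
    rw [Nat.prime_two.factorization_self] at h
    interval_cases w <;> simp [Nat.prime_two.factorization_self] at h <;> omega
  · have := hp.out.two_le
    rw [fact_lt (by omega), Nat.prime_two.factorization, Finsupp.single_eq_of_ne e] at h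
    exact ⟨h, (absurd · e)⟩

end Cfsg.Lib.SnCh
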