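import Cfsg.Agent.Lib.SnCh.Fock
import Cfsg.Agent.Lib.Char.Column
import Cfsg.Agent.Lib.Char.Values

/-! The irreducible characters of the symmetric groups. -/

set_option autoImplicit false
set_option maxHeartbeats 400000

namespace Cfsg.Lib.SnCh

open MvPolynomial Finset Equiv Cfsg.Lib.Char
open scoped ComplexConjugate

variable {N : ℕ} {β γ : Fin N → ℕ} {α : Type*} [DecidableEq α] [Fintype α] {g h : Perm α} {ψ φ : IrrCharacter (Perm α)}

/-- The cycle type, including fixed points. -/
def typ (g : Perm α) : Multiset ℕ := g.partition.parts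

theorem typ_eq (g : Perm α) : typ g = g.cycleType + Multiset.replicate (Fintype.card α - g.cycleType.sum) 1 := by
  rw [Perm.sum_cycleType]; rfl

theorem typ_sum (g : Perm α) : (typ g).sum = Fintype.card α := g.partition.parts_sum

theorem zero_notMem_typ (g : Perm α) : 0 ∉ typ g := fun h => lt_irrefl 0 (g.partition.parts_pos h)

theorem typ_eq_iff : typ g = typ h ↔ IsConj g h := by
  rw [Perm.partition_eq_of_isConj, Nat.Partition.ext_iff]; rfl

theorem zc_typ (g : Perm α) : zc (typ g) = Nat.card (Subgroup.centralizer ({g} : Set (Perm α))) := by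
  rw [Perm.nat_card_centralizer, typ_eq, mul_assoc]
  generalize Fintype.card α - g.cycleType.sum = m
  induction m with
  | zero => simp [zc]
  | succ m ih =>
    rw [Multiset.replicate_succ, Multiset.add_cons, zc_cons, ih, Multiset.count_add, Multiset.count_replicate_self,
      Multiset.count_eq_zero.2 fun h => by simpa using Perm.two_le_of_mem_cycleType h, Nat.factorial_succ]
    ring

theorem sum_fac {I : Type*} [Fintype I] [DecidableEq I] (π : α → I) (hπ : Function.Surjective π) :
    ∏ i, psum (Fin N) ℂ #{x | π x = i} = ∑ f : α → Fin N with ∀ x y, π x = π y → f x = f y, ∏ x, X (f x) := by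
  simp only [psum]
  rw [prod_univ_sum, Fintype.piFinset_univ]
  refine sum_bij (fun F _ => F ∘ π) (fun F _ => by simp +contextual) (fun _ _ _ _ e => hπ.injective_comp_right e)
    (fun f hf => ⟨f ∘ Function.surjInv hπ, mem_univ _, funext fun x =>
      (mem_filter.1 hf).2 _ _ (Function.surjInv_eq hπ _)⟩) fun F _ => ?_
  rw [← image_univ_of_surjective hπ]; exact (prod_comp (fun i => X (F i)) π).symm

theorem prod_psum (g : Perm α) :
    ((typ g).map (psum (Fin N) ℂ)).prod = ∑ f : α → Fin N with f ∘ g = f, ∏ x, X (f x) := by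
  let π : α → g.cycleFactorsFinset ⊕ {x // x ∉ g.support} := fun x =>
    if h : x ∈ g.support then .inl ⟨_, Perm.cycleOf_mem_cycleFactorsFinset_iff.2 h⟩ else .inr ⟨x, h⟩
  have l : ∀ x c, π x = .inl c ↔ x ∈ c.1.support := fun x c => by
    rw [← Perm.eq_cycleOf_of_mem_cycleFactorsFinset_iff g c c.2]
    by_cases h : x ∈ g.support
    · simp [π, h, Subtype.ext_iff, eq_comm, -Perm.mem_support]
    · simp only [π, h, dite_false, reduceCtorEq, false_iff]
      exact fun e => h (Perm.cycleOf_mem_cycleFactorsFinset_iff.1 (e ▸ c.2))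
  have r : ∀ x y, π x = .inr y ↔ x = y := fun x y => by
    by_cases h : x ∈ g.support
    · simp only [π, h, dite_true, reduceCtorEq, false_iff]
      exact fun e => y.2 (e ▸ h)
    · simp [π, h, Subtype.ext_iff, -Perm.mem_support]
  have := sum_fac (N := N) π fun i => by
    rcases i with c | y
    · obtain ⟨x, hx, -⟩ := (Perm.mem_cycleFactorsFinset_iff.1 c.2).1
      exact ⟨x, (l x c).2 (Perm.mem_support.2 hx)⟩
    · exact ⟨y, (r y y).2 rfl⟩
  rw [Fintype.prod_sum_type] at this
  simp only [l, r, filter_univ_mem, filter_eq', mem_univ, if_true, card_singleton, prod_const, card_univ] at this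
  have e : ((typ g).map (psum (Fin N) ℂ)).prod = (∏ c : g.cycleFactorsFinset, psum (Fin N) ℂ #c.1.support) *
      psum (Fin N) ℂ 1 ^ Fintype.card {x // x ∉ g.support} := by
    rw [typ, Perm.parts_partition, Multiset.map_add, Multiset.prod_add, Multiset.map_replicate, Multiset.prod_replicate,
      Perm.cycleType_def, Multiset.map_map, prod_coe_sort g.cycleFactorsFinset fun c => psum (Fin N) ℂ #c.support,
      Fintype.card_subtype_compl, Fintype.card_coe]; rfl
  rw [e, this]
  refine sum_congr (filter_congr fun f _ => ⟨fun H => funext fun x => H _ _ ?_, fun H x y e => ?_⟩) fun _ _ => rfl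
  · by_cases h : x ∈ g.support
    · simp [π, h, Perm.apply_mem_support.2 h, Perm.cycleOf_self_apply, -Perm.mem_support]
    · rw [Perm.notMem_support.1 h]
  · by_cases h : y ∈ g.support
    · have e' : π y = .inl ⟨_, Perm.cycleOf_mem_cycleFactorsFinset_iff.2 h⟩ := dif_pos h
      have e'' : x ∈ (g.cycleOf y).support := (l x ⟨_, Perm.cycleOf_mem_cycleFactorsFinset_iff.2 h⟩).1 (e.trans e')
      obtain ⟨k, rfl⟩ := (Perm.mem_support_cycleOf_iff.1 e'').1.exists_nat_pow_eq
      clear e e' e''
      induction k with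
      | zero => rfl
      | succ k ih => rw [pow_succ', Perm.mul_apply, ← ih]; exact congrFun H _
    · have e' : π y = .inr ⟨y, h⟩ := dif_neg h
      rw [(r x _).1 (e.trans e')]

/-- The (signed) character with beta numbers `β`. -/
noncomputable def ch (α : Type*) [DecidableEq α] [Fintype α] (β : Fin N → ℕ) : Perm α → ℂ := fun g => xv β (typ g)

theorem isCharacter_co (γ : Fin N → ℕ) :
    IsCharacter (Perm α) fun g => co γ ((typ g).map (psum (Fin N) ℂ)).prod := by
  letI : MulAction (Perm α) (α → Fin N) := arrowAction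
  let S : SubMulAction (Perm α) (α → Fin N) := ⟨{f | (fun i => #{x | f x = i}) = γ}, fun g f hf =>
    Eq.trans (funext fun i => card_equiv g⁻¹ fun x => by simp; rfl) hf⟩
  convert isCharacter_card_fixedBy (G := Perm α) S with g
  have : ∀ f : α → Fin N, ∏ x, X (f x) = mono fun i => #{x | f x = i} := fun f => by
    rw [mono_eq, ← prod_fiberwise' univ f]; simp
  simp only [prod_psum, map_sum, this, co_mono, sum_boole, filter_filter]
  rw [← Fintype.card_subtype, ← Nat.card_eq_fintype_card]
  refine congrArg _ (Nat.card_congr ⟨fun f => ⟨⟨f.1, f.2.2⟩, Subtype.ext (funext fun x => ?_)⟩,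
    fun f => ⟨f.1.1, funext fun x => ?_, f.1.2⟩, fun _ => rfl, fun _ => rfl⟩)
  · exact (congrFun f.2.1 (g⁻¹ x)).symm.trans (congrArg f.1 (g.apply_symm_apply x))
  · exact (congrFun (congrArg Subtype.val f.2) (g x)).symm.trans (congrArg f.1.1 (g.symm_apply_apply x))

theorem ch_gen (β : Fin N → ℕ) : IsGeneralizedCharacter (Perm α) (ch α β) := by
  have : ch α β = ∑ w : Perm (Fin N), sg w • fun g => if ∀ i, (w i : ℕ) ≤ β i then
      co (β - fun i => (w i : ℕ)) ((typ g).map (psum (Fin N) ℂ)).prod else 0 := funext fun g => by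
    simp only [ch, xv_eq, ap, alt, mul_comm _ (∑ _, _), sum_mul, smul_mul_assoc, map_sum, map_smul, co_mono_mul, Finset.sum_apply,
      Pi.smul_apply]
  rw [this]
  refine isGeneralizedCharacter_sum _ _ fun w _ => ?_
  split_ifs
  exacts [(isCharacter_co _).isGeneralizedCharacter.intCast_smul _, isGeneralizedCharacter_zero.intCast_smul _]

theorem conj_ch (β : Fin N → ℕ) (g : Perm α) : conj (ch α β g) = ch α β g := by
  rw [← (ch_gen β).apply_inv, ch, ch, typ_eq, typ_eq, Perm.cycleType_inv]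

theorem ch_comp (σ : Perm (Fin N)) (β : Fin N → ℕ) : ch α (β ∘ σ) = sg σ • ch α β :=
  funext fun _ => xv_comp σ β _

variable (α N) in
/-- The relevant beta numbers. -/
def bs : Finset (Fin N → ℕ) := piAntidiag univ (Fintype.card α + ∑ i : Fin N, (i : ℕ))

theorem mem_bs : β ∈ bs N α ↔ ∑ i, β i = Fintype.card α + ∑ i : Fin N, (i : ℕ) := by simp [bs]

theorem pair_typ (φ : (Fin N → ℕ) → ℂ) (g : Perm α) : pair φ (ap N (typ g)) = ∑ β ∈ bs N α, ch α β g * φ β := by
  rw [pair_eq_sum φ _ fun β h => mem_bs.2 (typ_sum g ▸ sum_of_xv (xv_eq β _ ▸ h))]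
  simp only [ch, xv_eq]

/-- `β` labels the character `ψ`. -/
def Lab (β : Fin N → ℕ) (ψ : IrrCharacter (Perm α)) : Prop := classInner (ch α β) ψ ≠ 0

theorem Lab.ne_zero (h : Lab β ψ) : ch α β ≠ 0 := fun e => h (by rw [e, classInner_zero_left])

theorem Lab.inj (h : Lab β ψ) : Function.Injective β := by
  obtain ⟨g, hg⟩ := Function.ne_iff.1 h.ne_zero
  exact inj_of_xv hg

theorem Lab.mem (h : Lab β ψ) : β ∈ bs N α := by
  obtain ⟨g, hg⟩ := Function.ne_iff.1 h.ne_zero
  exact mem_bs.2 (typ_sum g ▸ sum_of_xv hg)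

theorem Lab.comp (h : Lab β ψ) (σ : Perm (Fin N)) : Lab (β ∘ σ) ψ := by
  rw [Lab, ch_comp, classInner_smul_left]
  exact mul_ne_zero (left_ne_zero_of_mul_eq_one (sg_sq σ)) h

theorem Lab.sum_orbit (h : Lab β ψ) (φ : IrrCharacter (Perm α)) :
    ∑ γ ∈ univ.image (fun σ : Perm (Fin N) => β ∘ σ), classInner (ch α γ) ψ * classInner (ch α γ) φ =
      N.factorial * (classInner (ch α β) ψ * classInner (ch α β) φ) := by
  rw [sum_image fun _ _ _ _ e => Equiv.ext (congrFun (h.inj.comp_left e)),
    sum_congr rfl fun σ _ => show _ = classInner (ch α β) ψ * classInner (ch α β) φ by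
      rw [ch_comp, classInner_smul_left, classInner_smul_left, mul_mul_mul_comm, sg_sq, one_mul], sum_const, card_univ,
    Fintype.card_perm, Fintype.card_fin, nsmul_eq_mul]

theorem exists_lab (h : ch α β ≠ 0) : ∃ ψ : IrrCharacter (Perm α), Lab β ψ := by
  obtain ⟨ψ, h1, h2⟩ := (ch_gen β).isClassFunction.exists_irr_inner_ne_zero h
  exact ⟨⟨ψ, h1⟩, h2⟩

variable (hN : Fintype.card α ≤ N)
include hN

theorem column (g h : Perm α) : ∑ β ∈ bs N α, ch α β g * ch α β h =
    N.factorial * ∑ χ : IrrCharacter (Perm α), (χ : Perm α → ℂ) g * conj ((χ : Perm α → ℂ) h) := by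
  have := orth (zero_notMem_typ g) (zero_notMem_typ h) ((typ_sum g).trans (typ_sum h).symm) ((typ_sum h).trans_le hN)
  rw [pair_typ] at this
  refine this.trans ?_
  split_ifs with e
  · rw [sum_irr_mul_conj_of_isConj (typ_eq_iff.1 e), zc_typ]
  · rw [sum_irr_mul_conj_of_not_isConj fun f => e (typ_eq_iff.2 f), mul_zero]

open Classical in
theorem sum_inner (ψ φ : IrrCharacter (Perm α)) :
    ∑ β ∈ bs N α, classInner (ch α β) ψ * classInner (ch α β) φ = if ψ = φ then (N.factorial : ℂ) else 0 := by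
  have r : ∀ β : Fin N → ℕ, classInner (ch α β) φ = classInner φ (ch α β) := fun β =>
    (ch_gen β).inner_comm φ.2.isGeneralizedCharacter
  have : ∀ h, ∑ β ∈ bs N α, classInner (ch α β) ψ * ch α β h = N.factorial * conj ((ψ : Perm α → ℂ) h) := fun h => by
    have : (∑ β ∈ bs N α, ch α β h • ch α β) = ∑ χ : IrrCharacter (Perm α),
        (N.factorial * conj ((χ : Perm α → ℂ) h)) • (χ : Perm α → ℂ) := funext fun g => by
      simp only [Finset.sum_apply, Pi.smul_apply, smul_eq_mul, mul_comm (ch α _ h), column hN, mul_sum]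
      exact sum_congr rfl fun _ _ => by ring
    rw [← classInner_sum_smul_irr (fun χ => N.factorial * conj ((χ : Perm α → ℂ) h)) ψ, ← this, classInner_sum_left]
    exact sum_congr rfl fun _ _ => by rw [classInner_smul_left, mul_comm]
  have e : (∑ β ∈ bs N α, classInner (ch α β) ψ • ch α β) = (N.factorial : ℂ) • (ψ : Perm α → ℂ) := funext fun g => by
    have := congrArg conj (this g)
    obtain ⟨n, hn⟩ : ∃ n : (Fin N → ℕ) → ℤ, ∀ β, classInner (ch α β) ψ = n β :=
      ⟨_, fun β => ((ch_gen β).exists_inner_eq_int ψ.2.isGeneralizedCharacter).choose_spec⟩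
    simpa [hn, conj_ch] using this
  have := congrArg (classInner · (φ : Perm α → ℂ)) e
  simp only [classInner_sum_left, classInner_smul_left, irr_inner_eq_ite] at this
  simpa using this

theorem exists_lab' (ψ : IrrCharacter (Perm α)) : ∃ β : Fin N → ℕ, Lab β ψ := by
  obtain ⟨β, -, h⟩ := exists_ne_zero_of_sum_ne_zero (s := bs N α)
    (f := fun β => classInner (ch α β) ψ * classInner (ch α β) ψ) (by
      rw [sum_inner hN, if_pos rfl]; exact_mod_cast N.factorial_ne_zero)
  exact ⟨β, left_ne_zero_of_mul h⟩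

theorem Lab.spec (h : Lab β ψ) : classInner (ch α β) ψ * classInner (ch α β) ψ = 1 ∧
    ∀ γ, Lab γ ψ → ∃ σ : Perm (Fin N), β ∘ σ = γ := by
  classical
  obtain ⟨n, hn⟩ : ∃ n : (Fin N → ℕ) → ℤ, ∀ β, classInner (ch α β) ψ = n β :=
    ⟨_, fun β => ((ch_gen β).exists_inner_eq_int ψ.2.isGeneralizedCharacter).choose_spec⟩
  have e := sum_inner hN ψ ψ
  have s : univ.image (fun σ : Perm (Fin N) => β ∘ σ) ⊆ bs N α := image_subset_iff.2 fun σ _ => (h.comp σ).mem
  rw [if_pos rfl, ← sum_sdiff s, h.sum_orbit] at e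
  simp only [Lab, hn, Int.cast_ne_zero] at h e ⊢
  norm_cast at e ⊢
  have p : 0 ≤ ∑ x ∈ bs N α \ univ.image fun σ : Perm (Fin N) => β ∘ σ, n x * n x := sum_nonneg fun _ _ => mul_self_nonneg _
  have q : 0 < n β * n β := mul_self_pos.2 h
  have f : (0 : ℤ) < N.factorial := by exact_mod_cast N.factorial_pos
  have e1 : n β * n β = 1 := by nlinarith
  refine ⟨e1, fun γ hγ => by_contra fun H => hγ (mul_self_eq_zero.1 ?_)⟩
  rw [e1, mul_one, add_eq_right, sum_eq_zero_iff_of_nonneg fun _ _ => mul_self_nonneg _] at e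
  exact e γ (mem_sdiff.2 ⟨Lab.mem (ψ := ψ) (by rw [Lab, hn]; exact_mod_cast hγ), by simpa using H⟩)

theorem Lab.unique (h : Lab β ψ) (h' : Lab β φ) : ψ = φ := by
  classical
  by_contra n
  have e := sum_inner hN ψ φ
  have s : univ.image (fun σ : Perm (Fin N) => β ∘ σ) ⊆ bs N α := image_subset_iff.2 fun σ _ => (h.comp σ).mem
  rw [if_neg n, ← sum_subset s fun γ _ H => mul_eq_zero_of_left (by_contra fun f => H (by
      simpa using (h.spec hN).2 γ f)) _, h.sum_orbit] at e
  simpa [show classInner (ch α β) ψ ≠ 0 from h, show classInner (ch α β) φ ≠ 0 from h', N.factorial_ne_zero] using e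

theorem Lab.exists_eq (h : Lab β ψ) : ∃ c : ℂ, c * c = 1 ∧ ∀ g, (ψ : Perm α → ℂ) g = c * ch α β g :=
  ⟨_, (h.spec hN).1, fun g => by
    rw [(ch_gen β).isClassFunction.apply_eq_sum_irr g, sum_eq_single ψ (fun φ _ n => mul_eq_zero_of_left
      (by_contra fun f => n (Lab.unique hN f h)) _) (by simp), ← mul_assoc, (h.spec hN).1, one_mul]⟩

open Classical in
theorem sum_filter_ch {Q : (Fin N → ℕ) → Prop} (hQ : ∀ β (σ : Perm (Fin N)), Q β → Q (β ∘ σ)) (x y : Perm α) :
    ∑ β ∈ bs N α with Q β, ch α β x * ch α β y = N.factorial *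
      ∑ ψ : IrrCharacter (Perm α) with ∃ β, Q β ∧ Lab β ψ, (ψ : Perm α → ℂ) x * conj ((ψ : Perm α → ℂ) y) := by
  have : ∀ β : Fin N → ℕ, ch α β x * ch α β y = ∑ ψ : IrrCharacter (Perm α),
      classInner (ch α β) ψ * classInner (ch α β) ψ * ((ψ : Perm α → ℂ) x * conj ((ψ : Perm α → ℂ) y)) := fun β => by
    by_cases h : ch α β = 0
    · simp [h]
    obtain ⟨ψ, h⟩ := exists_lab h
    obtain ⟨c, h1, h2⟩ := h.exists_eq hN
    rw [sum_eq_single ψ (fun φ _ n => by rw [show classInner (ch α β) φ = 0 from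
      by_contra fun f => n (Lab.unique hN f h)]; simp) (by simp), (h.spec hN).1, h2, h2, map_mul, conj_ch]
    rcases mul_self_eq_one_iff.1 h1 with rfl | rfl <;> simp
  rw [sum_congr rfl fun β _ => this β, sum_comm, sum_filter, mul_sum]
  refine sum_congr rfl fun ψ _ => ?_
  rw [← sum_mul, mul_ite, mul_zero]
  split_ifs with h
  · obtain ⟨β, h1, h2⟩ := h
    rw [sum_subset (filter_subset _ _) fun γ a b => mul_eq_zero_of_left (by_contra fun f => b (by
      obtain ⟨σ, rfl⟩ := (h2.spec hN).2 γ f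
      exact mem_filter.2 ⟨a, hQ _ _ h1⟩)) _, sum_inner hN, if_pos rfl]
  · rw [sum_eq_zero fun β a => mul_eq_zero_of_left (by_contra fun f => h ⟨β, (mem_filter.1 a).2, f⟩) _, zero_mul]

end Cfsg.Lib.SnCh
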