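import Cfsg.Agent.Lib.SnCh.Fock

/-! Cores, the abacus and the product formula for the removal of `p`-hooks. -/

set_option autoImplicit false
set_option maxHeartbeats 400000

namespace Cfsg.Lib.SnCh

open Finset Equiv Function

variable {N p w : ℕ} {β γ κ : Fin N → ℕ} {μ ρ : Multiset ℕ}

/-- No bead can be moved down. -/
def Core (p : ℕ) (κ : Fin N → ℕ) : Prop := Injective κ ∧ ∀ j, p ≤ κ j → ∃ i, κ i + p = κ j

theorem Core.down (h : Core p κ) (j : Fin N) {s : ℕ} (hs : p * s ≤ κ j) : ∃ i, κ i + p * s = κ j := by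
  induction s with
  | zero => exact ⟨j, rfl⟩
  | succ s ih =>
    rw [mul_add_one] at hs ⊢
    obtain ⟨i, hi⟩ := ih (by omega)
    obtain ⟨i', hi'⟩ := h.2 i (by omega)
    exact ⟨i', by omega⟩

theorem Core.exists_of_le (h : Core p κ) {j : Fin N} {t : ℕ} (e : κ j % p = t % p) (ht : t ≤ κ j) : ∃ i, κ i = t := by
  obtain ⟨s, hs⟩ := (Nat.modEq_iff_dvd' ht).1 e.symm
  obtain ⟨i, hi⟩ := h.down j (s := s) (by omega)
  exact ⟨i, by omega⟩

theorem Core.mem_iff (hp : 0 < p) (h : Core p κ) (t : ℕ) : (∃ j, κ j = t) ↔ t / p < #{j | κ j % p = t % p} := by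
  constructor
  · rintro ⟨j, rfl⟩
    refine (card_range _).ge.trans ((card_le_card (t := image (κ · / p) _) fun s hs => ?_).trans card_image_le)
    have := Nat.mul_le_mul_left p (Nat.le_of_lt_succ (mem_range.1 hs))
    have := Nat.div_add_mod (κ j) p
    obtain ⟨i, hi⟩ := h.exists_of_le (j := j) (t := κ j % p + p * s) (by simp) (by omega)
    exact mem_image.2 ⟨i, by simp [hi], by rw [hi, Nat.add_mul_div_left _ _ hp, Nat.mod_div_self, zero_add]⟩
  · refine fun H => by_contra fun n => H.not_ge ((card_le_card_of_injOn (t := range (t / p)) (κ · / p)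
      (fun j hj => ?_) fun i hi j hj e => h.1 ?_).trans (card_range _).le)
    · have e : κ j % p = t % p := by simpa using hj
      have := not_le.1 fun l => n (h.exists_of_le e l)
      have := Nat.div_add_mod (κ j) p
      have := Nat.div_add_mod t p
      exact mem_coe.2 (mem_range.2 (lt_of_mul_lt_mul_left (a := p) (b := κ j / p) (by omega) p.zero_le))
    · rw [← Nat.div_add_mod (κ i) p, ← Nat.div_add_mod (κ j) p, show κ i / p = κ j / p from e,
        (mem_filter.1 hi).2, (mem_filter.1 hj).2]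

theorem Core.perm (hp : 0 < p) (h : Core p κ) (h' : Core p γ) (e : ∀ j, γ j % p = κ j % p) : ∃ σ : Perm (Fin N), κ ∘ σ = γ := by
  choose f hf using fun j => (h.mem_iff hp (γ j)).2 (by simpa only [e] using (h'.mem_iff hp (γ j)).1 ⟨j, rfl⟩)
  exact ⟨ofBijective f (Finite.injective_iff_bijective.1 fun i j e => h'.1 (by rw [← hf, e, hf])), funext hf⟩

theorem sub_mod {j : Fin N} {k : ℕ} (h : p * k ≤ β j) (i : Fin N) :
    (β - Pi.single j (p * k) : Fin N → ℕ) i % p = β i % p := by
  by_cases e : i = j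
  · subst e; simpa using Nat.sub_mul_mod h
  · simp [e]

theorem sub_mod' {j : Fin N} (h : p ≤ β j) (i : Fin N) : (β - Pi.single j p : Fin N → ℕ) i % p = β i % p := by
  simpa using sub_mod (k := 1) (by simpa using h) i

theorem exists_core (hp : 0 < p) (hβ : Injective β) : ∃ κ w, Core p κ ∧ (∀ j, β j % p = κ j % p) ∧
    ∑ j, β j = ∑ j, κ j + p * w ∧ (w = 0 → β = κ) := by
  induction hs : ∑ j, β j using Nat.strong_induction_on generalizing β with | _ s ih => ?_
  by_cases h : Core p β
  · exact ⟨β, 0, h, fun _ => rfl, hs.symm, fun _ => rfl⟩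
  obtain ⟨j, h1, h2⟩ : ∃ j, p ≤ β j ∧ ∀ i, β i + p ≠ β j := by simpa [Core, hβ] using h
  have := sum_sub_single h1
  obtain ⟨κ, w, a, b, c, -⟩ := ih _ (by omega) (β := β - Pi.single j p) (fun i i' e => by
    have := h2 i; have := h2 i'
    by_cases a : i = j <;> by_cases b : i' = j <;> simp [a, b] at e ⊢ <;> first | omega | exact hβ e) rfl
  exact ⟨κ, w + 1, a, fun i => (sub_mod' h1 i).symm.trans (b i), by
    rw [mul_add_one]; omega, by simp⟩

theorem Core.exists_wt (hp : 0 < p) (h : Core p κ) (hβ : Injective β) (e : ∀ j, β j % p = κ j % p) :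
    ∃ w, ∑ j, β j = ∑ j, κ j + p * w ∧ (w = 0 → ∃ σ : Perm (Fin N), κ ∘ σ = β) := by
  obtain ⟨γ, w, a, b, c, d⟩ := exists_core hp hβ
  obtain ⟨σ, rfl⟩ := h.perm hp a fun j => (b j).symm.trans (e j)
  exact ⟨w, c.trans (congrArg (· + _) (Equiv.sum_comp σ κ)), fun e => ⟨σ, (d e).symm⟩⟩

open Polynomial in
theorem lagr {ι : Type*} [DecidableEq ι] (s : Finset ι) {v : ι → ℚ} (hv : Set.InjOn v s) :
    ∑ j ∈ s, v j * ∏ i ∈ s.erase j, (v j - 1 - v i) / (v j - v i) = ∑ j ∈ s, v j - #s * (#s - 1) / 2 := by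
  let R : Finset ι → ℚ[X] := fun s => X * ∏ i ∈ s, (X - C (v i + 1)) - (X - C (#s : ℚ)) * ∏ i ∈ s, (X - C (v i))
  have : (R s).degree < #s ∧ (X * R s).coeff #s = #s * (#s - 1) / 2 - ∑ j ∈ s, v j := by
    clear hv
    induction s using Finset.induction_on with
    | empty => simp [R]
    | insert a s ha ih =>
      have e : R (insert a s) = X * R s - C (1 + v a) * R s + C (#s - v a) * ∏ i ∈ s, (X - C (v i)) := by
        simp only [R, prod_insert ha, card_insert_of_notMem ha, Nat.cast_add, map_add, map_sub, Nat.cast_one, map_one]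
        ring
      have m := monic_prod_X_sub_C v s
      have d := natDegree_finsetProd_X_sub_C_eq_card s v
      rw [e, card_insert_of_notMem ha, coeff_X_mul, sum_insert ha, coeff_add, coeff_sub, ih.2, coeff_C_mul, coeff_C_mul,
        coeff_eq_zero_of_degree_lt ih.1, ← d, m.coeff_natDegree, d]
      refine ⟨(degree_lt_iff_coeff_zero _ _).2 fun k hk => ?_, by push_cast; ring⟩
      obtain ⟨k, rfl⟩ : ∃ j, k = j + 1 := ⟨k - 1, by omega⟩
      have := (degree_lt_iff_coeff_zero _ _).1 ih.1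
      rw [coeff_add, coeff_sub, coeff_X_mul, coeff_C_mul, coeff_C_mul, this _ (by omega), this _ (by omega),
        coeff_eq_zero_of_natDegree_lt (by omega)]
      simp
  rcases s.eq_empty_or_nonempty with rfl | n
  · simp
  obtain ⟨h1, h2⟩ := this
  rw [← Nat.sub_add_cancel n.card_pos, coeff_X_mul, Lagrange.coeff_eq_sum hv h1, Nat.sub_add_cancel n.card_pos] at h2
  rw [← neg_sub, ← h2, ← sum_neg_distrib]
  refine sum_congr rfl fun j hj => ?_
  simp only [R, eval_sub, eval_mul, eval_prod, eval_X, eval_C]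
  rw [prod_eq_zero (f := fun i => v j - v i) hj (sub_self _), ← mul_prod_erase _ _ hj, prod_div_distrib]
  simp only [sub_sub, add_comm (1 : ℚ)]
  ring

/-- An antisymmetric difference adapted to the runners. -/
def dd (p x y : ℕ) : ℚ :=
  if x % p = y % p then ((y / p : ℕ) : ℚ) - (x / p : ℕ) else ((y % p : ℕ) : ℚ) - (x % p : ℕ)

theorem dd_anti (x y : ℕ) : dd p x y = -dd p y x := by
  simp only [dd, eq_comm (a := x % p)]; split_ifs <;> ring

theorem dd_eq_zero {x y : ℕ} : dd p x y = 0 ↔ x = y := by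
  refine ⟨fun h => ?_, fun h => by simp [dd, h]⟩
  unfold dd at h
  split_ifs at h with e <;> rw [sub_eq_zero, Nat.cast_inj] at h
  · rw [← Nat.div_add_mod x p, ← h, e, Nat.div_add_mod]
  · exact absurd h.symm e

/-- The product formula. -/
def FF (p : ℕ) (β : Fin N → ℕ) : ℚ := (∏ i, ∏ j ∈ Ioi i, dd p (β i) (β j)) / ∏ j, ((β j / p).factorial : ℚ)

theorem FF_comp (σ : Perm (Fin N)) (β : Fin N → ℕ) : FF p (β ∘ σ) = Perm.sign σ * FF p β := by
  rw [FF, FF, ← mul_div_assoc, ← σ.prod_Ioi_comp_eq_sign_mul_prod fun i j => dd_anti (β i) (β j),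
    ← Equiv.prod_comp σ fun j => ((β j / p).factorial : ℚ)]; rfl

theorem FF_ne_zero : FF p β ≠ 0 ↔ Injective β := by
  simp only [FF, Ne, div_eq_zero_iff, prod_eq_zero_iff, dd_eq_zero, Nat.cast_eq_zero, Nat.factorial_ne_zero, mem_univ,
    true_and, exists_false, or_false, mem_Ioi, not_exists, not_and]
  exact ⟨fun h i j e => by_contra fun n => (lt_or_gt_of_ne n).elim (h i j · e) (h j i · e.symm),
    fun h i j l e => l.ne (h e)⟩

theorem FF_sub (hp : 0 < p) (hβ : Injective β) (j : Fin N) : (if p ≤ β j then FF p (β - Pi.single j p) else 0) =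
    FF p β * ((β j / p : ℕ) * ∏ i ∈ ({i | β i % p = β j % p} : Finset _).erase j,
      (((β j / p : ℕ) : ℚ) - 1 - (β i / p : ℕ)) / ((β j / p : ℕ) - (β i / p : ℕ))) := by
  split_ifs with h
  swap; · simp [Nat.div_eq_of_lt (not_le.1 h)]
  let t : Fin N → ℚ := fun i => if β i % p = β j % p then
    (((β j / p : ℕ) : ℚ) - 1 - (β i / p : ℕ)) / ((β j / p : ℕ) - (β i / p : ℕ)) else 1
  have q : (β j - p) / p + 1 = β j / p := by rw [← Nat.add_div_right _ hp, Nat.sub_add_cancel h]
  have k : ∀ i, i ≠ j → dd p (β i) (β j - p) = dd p (β i) (β j) * t i := fun i n => by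
    have := mt (dd_eq_zero (p := p)).1 (hβ.ne n)
    simp only [dd, t, ← Nat.mod_eq_sub_mod h] at this ⊢
    split_ifs at this ⊢
    · rw [mul_div_cancel₀ _ this, ← q]; push_cast; ring
    · rw [mul_one]
  have e1 : ∏ i, ∏ i' ∈ Ioi i, dd p ((β - Pi.single j p : Fin N → ℕ) i) ((β - Pi.single j p : Fin N → ℕ) i') =
      (∏ i, ∏ i' ∈ Ioi i, dd p (β i) (β i')) * ∏ i ∈ {j}ᶜ, t i := by
    have := prod_prod_Ioi_mul_eq_prod_prod_off_diag fun i' i : Fin N => if i = j then t i' else 1
    rw [prod_eq_single j (f := fun i => ∏ i' ∈ {i}ᶜ, _) (fun i _ n => by simp [n]) (by simp)] at this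
    simp only [if_true] at this
    simp only [← this, ← prod_mul_distrib]
    refine prod_congr rfl fun i _ => prod_congr rfl fun i' h => ?_
    have n := (mem_Ioi.1 h).ne
    by_cases a : i = j
    · subst a; simp [n.symm, dd_anti (β i - p), dd_anti (β i), k i' n.symm]
    · by_cases b : i' = j <;> simp [a, b, k]
  have e2 : ∏ i, ((β i / p).factorial : ℚ) =
      (β j / p : ℕ) * ∏ i, ((((β - Pi.single j p : Fin N → ℕ) i) / p).factorial : ℚ) := by
    rw [← mul_prod_erase _ _ (mem_univ j), ← mul_prod_erase _ _ (mem_univ j), ← mul_assoc]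
    congr 1
    · simp [← q, Nat.factorial_succ]
    · exact prod_congr rfl fun i hi => by simp [ne_of_mem_erase hi]
  have : ((β j / p : ℕ) : ℚ) ≠ 0 := by rw [← q]; positivity
  rw [FF, FF, e1, e2, ← filter_erase, prod_filter, compl_singleton]
  field_simp
  rfl

theorem sum_FF (hp : 0 < p) (hβ : Injective β) : ∑ j, (if p ≤ β j then FF p (β - Pi.single j p) else 0) =
    FF p β * (∑ j, (β j / p : ℕ) - ∑ r ∈ range p, (#{i | β i % p = r} * (#{i | β i % p = r} - 1) / 2 : ℚ)) := by
  have f := fun g : Fin N → ℚ => sum_fiberwise_of_maps_to (s := univ) (t := range p) (g := (β · % p))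
    (fun j _ => mem_range.2 (Nat.mod_lt _ hp)) g
  simp only [FF_sub hp hβ, ← mul_sum, Nat.cast_sum]
  rw [← f, ← f fun j => (β j / p : ℕ), ← sum_sub_distrib]
  refine congrArg _ (sum_congr rfl fun r _ => ?_)
  rw [← lagr _ fun i hi j hj e => hβ ?_]
  · exact sum_congr rfl fun j hj => by rw [(mem_filter.1 hj).2]
  · rw [← Nat.div_add_mod (β i) p, ← Nat.div_add_mod (β j) p, show β i / p = β j / p from Nat.cast_injective e,
      (mem_filter.1 hi).2, (mem_filter.1 hj).2]

theorem sum_div (e : ∀ j, β j % p = κ j % p) (hp : 0 < p) (hs : ∑ j, β j = ∑ j, κ j + p * w) :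
    ∑ j, β j / p = ∑ j, κ j / p + w := by
  rw [← sum_congr rfl fun j _ => Nat.div_add_mod (β j) p, ← sum_congr rfl fun j _ => Nat.div_add_mod (κ j) p] at hs
  simp only [sum_add_distrib, ← mul_sum, e] at hs
  exact Nat.eq_of_mul_eq_mul_left hp (by rw [mul_add]; omega)

theorem Core.sum_FF (hp : 0 < p) (h : Core p κ) (hβ : Injective β) (e : ∀ j, β j % p = κ j % p)
    (hs : ∑ j, β j = ∑ j, κ j + p * w) : ∑ j, (if p ≤ β j then FF p (β - Pi.single j p) else 0) = FF p β * w := by
  have := SnCh.sum_FF hp h.1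
  rw [sum_eq_zero fun j _ => ite_eq_right_iff.2 fun l => by_contra fun n => by
    obtain ⟨i, hi⟩ := h.2 j l
    have a : i ≠ j := by rintro rfl; omega
    exact a (FF_ne_zero.1 n (by simp [a]; omega)), eq_comm, mul_eq_zero, or_iff_right (FF_ne_zero.2 h.1), sub_eq_zero] at this
  simp only [SnCh.sum_FF hp hβ, e, ← this, sum_div e hp hs, Nat.cast_add, add_sub_cancel_left]

theorem Core.exists_int (hp : 0 < p) (h : Core p κ) (e : ∀ j, β j % p = κ j % p) (hs : ∑ j, β j = ∑ j, κ j + p * w) :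
    ∃ c : ℤ, c * FF p κ = w.factorial * FF p β ∧ ∀ ρ, xv β (Multiset.replicate w p + ρ) = c * xv κ ρ := by
  induction w generalizing β
  all_goals
    refine (em (Injective β)).elim (fun hβ => ?_) fun hβ => ⟨0, by simp [not_not.1 (mt FF_ne_zero.1 hβ)],
      fun ρ => by simp [not_not.1 (mt inj_of_xv hβ)]⟩
  · obtain ⟨w, a, b⟩ := h.exists_wt hp hβ e
    obtain ⟨σ, rfl⟩ := b (by nlinarith)
    exact ⟨Perm.sign σ, by simp [FF_comp], by simp [xv_comp, sg]⟩
  rename_i w ih
  choose! c h1 h2 using fun j (l : p ≤ β j) => ih (β := β - Pi.single j p) (fun i => (sub_mod' l i).trans (e i))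
    (by have := sum_sub_single l; rw [mul_add_one] at hs; omega)
  refine ⟨∑ j, if p ≤ β j then c j else 0, ?_, fun ρ => ?_⟩
  · rw [Nat.factorial_succ, Nat.cast_mul, mul_right_comm, mul_comm _ (FF p β), ← h.sum_FF hp hβ e hs, Int.cast_sum,
      sum_mul, sum_mul]
    exact sum_congr rfl fun j _ => by split_ifs with l <;> simp [l, h1, mul_comm]
  · rw [Multiset.replicate_succ, Multiset.cons_add, xv_cons, Int.cast_sum, sum_mul]
    exact sum_congr rfl fun j _ => by split_ifs with l <;> simp [l, h2]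

@[to_additive]
theorem prod_occ {M : Type*} [CommMonoid M] (hp : 0 < p) (hβ : Injective β) (g : ℕ → ℕ → M) :
    ∏ j, ∏ t ∈ range (β j / p) with ∃ i, β i = β j % p + p * t, g (β j / p) t =
      ∏ i, ∏ j ∈ Ioi i, if β i % p = β j % p then g (max (β i / p) (β j / p)) (min (β i / p) (β j / p)) else 1 := by
  have q : ∀ i j, β i % p = β j % p → β i / p = β j / p → i = j := fun i j a b => hβ (by
    rw [← Nat.div_add_mod (β i) p, a, b, Nat.div_add_mod])
  refine ((prod_congr rfl fun i _ => prod_congr rfl fun j h => ?_).trans ((prod_prod_Ioi_mul_eq_prod_prod_off_diag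
    fun i j => if β i % p = β j % p ∧ β i / p < β j / p then g (β j / p) (β i / p) else 1).trans
      (prod_congr rfl fun j _ => ?_))).symm
  · by_cases e : β i % p = β j % p
    · rcases lt_or_gt_of_ne (mt (q i j e) (mem_Ioi.1 h).ne) with l | l <;> simp [e, l, l.le, l.not_gt]
    · simp [e, Ne.symm e]
  · rw [← prod_filter]
    refine prod_bij (fun i _ => β i / p) (fun i hi => ?_) (fun i hi i' hi' e => q _ _
      ((mem_filter.1 hi).2.1.trans (mem_filter.1 hi').2.1.symm) e) (fun t ht => ?_) fun _ _ => rfl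
    · exact mem_filter.2 ⟨mem_range.2 (mem_filter.1 hi).2.2, i, by rw [← (mem_filter.1 hi).2.1, Nat.mod_add_div]⟩
    · obtain ⟨h1, i, h2⟩ := mem_filter.1 ht
      have : β i / p = t := by rw [h2, Nat.add_mul_div_left _ _ hp, Nat.mod_div_self, zero_add]
      have h3 := mem_range.1 h1
      exact ⟨i, mem_filter.2 ⟨by simp; rintro rfl; omega, by simp [h2], by omega⟩, this⟩

/-- The product of the hook lengths of the quotient. -/
def hook (p : ℕ) (β : Fin N → ℕ) : ℕ := ∏ j, ∏ t ∈ range (β j / p) with ¬ ∃ i, β i = β j % p + p * t, (β j / p - t)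

theorem abs_FF (hp : 0 < p) (hβ : Injective β) : |FF p β| * hook p β =
    ∏ i, ∏ j ∈ Ioi i, if β i % p = β j % p then 1 else |((β j % p : ℕ) : ℚ) - (β i % p : ℕ)| := by
  have := prod_occ hp hβ fun a b => ((a - b : ℕ) : ℚ)
  rw [FF, abs_div, div_mul_eq_mul_div, div_eq_iff (by positivity), abs_of_pos (a := ∏ j, ((β j / p).factorial : ℚ)) (by positivity),
    prod_congr rfl fun j _ => show ((β j / p).factorial : ℚ) = _ by
      rw [← Nat.descFactorial_self, Nat.descFactorial_eq_prod_range, ← prod_filter_mul_prod_filter_not _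
        fun t => ∃ i, β i = β j % p + p * t, Nat.cast_mul, Nat.cast_prod],
    prod_mul_distrib, this, ← mul_assoc, hook, Nat.cast_prod, ← prod_mul_distrib (f := fun i => ∏ j ∈ Ioi i, _), abs_prod]
  refine congrArg (· * _) (prod_congr rfl fun i _ => ?_)
  rw [abs_prod, ← prod_mul_distrib]
  refine prod_congr rfl fun j _ => ?_
  unfold dd
  split_ifs
  · rw [Nat.cast_sub min_le_max, Nat.cast_max, Nat.cast_min, max_sub_min_eq_abs, one_mul]
  · rw [mul_one]

theorem Core.filter_eq (h : Core p κ) (j : Fin N) :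
    {t ∈ range (κ j / p) | ¬ ∃ i, κ i = κ j % p + p * t} = ∅ := filter_eq_empty_iff.2 fun t ht n => by
  have := Nat.mul_le_mul_left p (mem_range.1 ht).le
  have := Nat.div_add_mod (κ j) p
  exact n (h.exists_of_le (j := j) (by simp) (by omega))

theorem Core.natAbs_mul (hp : 0 < p) (h : Core p κ) (hβ : Injective β) (e : ∀ j, β j % p = κ j % p) {c : ℤ}
    (hc : c * FF p κ = w.factorial * FF p β) : c.natAbs * hook p β = w.factorial := by
  have a := abs_FF hp h.1
  have b := abs_FF hp hβ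
  simp only [hook, h.filter_eq, prod_empty, prod_const_one, Nat.cast_one, mul_one] at a
  simp only [e, ← a] at b
  apply Nat.cast_injective (R := ℚ)
  apply mul_right_cancel₀ (abs_ne_zero.2 (FF_ne_zero.2 h.1))
  rw [Nat.cast_mul, Nat.cast_natAbs, Int.cast_abs, mul_right_comm, ← abs_mul, hc, abs_mul, mul_assoc, b, Nat.abs_cast]

theorem Core.factorization_hook (hp : p.Prime) (h : Core p κ) (hβ : Injective β) (e : ∀ j, β j % p = κ j % p)
    (hs : ∑ j, β j = ∑ j, κ j + p * w) : (hook 1 β).factorization p = w + (hook p β).factorization p := by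
  have k : ∀ {β : Fin N → ℕ}, Injective β → ∑ j, #{t ∈ range (β j / p) | ¬ ∃ i, β i = β j % p + p * t} +
      ∑ i, ∑ j ∈ Ioi i, (if β i % p = β j % p then 1 else 0) = ∑ j, β j / p := fun hβ => by
    rw [← sum_occ hp.pos hβ fun _ _ => 1, ← sum_add_distrib]
    exact sum_congr rfl fun j _ => by rw [← card_eq_sum_ones, add_comm, card_filter_add_card_filter_not, card_range]
  have a := k h.1
  have b := k hβ
  simp only [h.filter_eq, card_empty, sum_const_zero, zero_add] at a
  simp only [sum_div e hp.pos hs, ← a] at b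
  rw [sum_congr (s₂ := univ) rfl fun i _ => sum_congr rfl fun j _ => if_congr (by rw [e, e]) rfl rfl, add_comm _ w,
    add_left_inj] at b
  have z : ∀ {b : ℕ} {P : ℕ → Prop} [DecidablePred P], ∀ t ∈ {t ∈ range b | P t}, b - t ≠ 0 := fun t ht =>
    Nat.sub_ne_zero_of_lt (mem_range.1 (mem_filter.1 ht).1)
  rw [hook, hook, ← b, Nat.factorization_prod_apply fun j _ => prod_ne_zero_iff.2 z,
    Nat.factorization_prod_apply fun j _ => prod_ne_zero_iff.2 z, ← sum_add_distrib]
  refine sum_congr rfl fun j _ => ?_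
  have := Nat.div_add_mod (β j) p
  rw [Nat.factorization_prod_apply z, Nat.factorization_prod_apply z, card_eq_sum_ones, ← sum_add_distrib]
  refine (sum_of_injOn (fun t => β j % p + p * t) (fun a _ b _ e => by simpa [hp.ne_zero] using e) (fun t ht => ?_)
    (fun t ht n => Nat.factorization_eq_zero_of_not_dvd fun d => n ?_) fun t ht => ?_).symm
  · have := Nat.mul_lt_mul_of_pos_left (mem_range.1 (mem_filter.1 ht).1) hp.pos
    simpa [Nat.mod_one] using ⟨by omega, by simpa using (mem_filter.1 ht).2⟩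
  · simp only [mem_filter, mem_range, Nat.div_one, Nat.mod_one, one_mul, zero_add] at ht d
    have q : β j % p + p * (t / p) = t := by rw [← (Nat.modEq_iff_dvd' ht.1.le).2 d, Nat.mod_add_div]
    exact ⟨t / p, by simpa [q] using ⟨lt_of_mul_lt_mul_left (a := p) (by omega) p.zero_le, by simpa using ht.2⟩, q⟩
  · have := Nat.mul_le_mul_left p (mem_range.1 (mem_filter.1 ht).1).le
    rw [show β j / 1 - (β j % p + p * t) = p * (β j / p - t) by rw [Nat.mul_sub]; omega,
      Nat.factorization_mul hp.ne_zero (z t ht), Finsupp.add_apply, hp.factorization_self]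

end Cfsg.Lib.SnCh
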