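import Mathlib

/-! Frobenius' formula: the coefficients of `a_δ p_μ` and the Heisenberg relations. -/

set_option autoImplicit false
set_option maxHeartbeats 400000

namespace Cfsg.Lib.SnCh

open MvPolynomial Finset Equiv

variable {N k l : ℕ} {β γ : Fin N → ℕ} {μ ν : Multiset ℕ}

abbrev Pl (N : ℕ) := MvPolynomial (Fin N) ℂ

noncomputable def fs (β : Fin N → ℕ) : Fin N →₀ ℕ := Finsupp.equivFunOnFinite.symm β

@[simp] theorem fs_apply (β : Fin N → ℕ) (i : Fin N) : fs β i = β i := rfl

noncomputable def mono (β : Fin N → ℕ) : Pl N := monomial (fs β) 1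

noncomputable def co (β : Fin N → ℕ) : Pl N →ₗ[ℂ] ℂ := lcoeff ℂ (fs β)

theorem mono_eq (β : Fin N → ℕ) : mono β = ∏ i, X i ^ β i := by
  rw [mono, monomial_eq, C_1, one_mul, Finsupp.prod_fintype _ _ (by simp)]; rfl

theorem mono_add (β γ : Fin N → ℕ) : mono (β + γ) = mono β * mono γ := by
  simp only [mono_eq, Pi.add_apply, pow_add, prod_mul_distrib]

theorem mono_single (i : Fin N) (k : ℕ) : mono (Pi.single i k) = X i ^ k := by
  rw [mono_eq, prod_eq_single i (fun j _ h => by simp [h]) (by simp)]; simp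

theorem co_mono_mul (β γ : Fin N → ℕ) (f : Pl N) : co β (mono γ * f) = if ∀ i, γ i ≤ β i then co (β - γ) f else 0 := by
  rw [co, lcoeff_apply, mono, coeff_monomial_mul', one_mul]
  exact if_congr Iff.rfl (congrArg (coeff · f) (Finsupp.ext fun _ => rfl)) rfl

theorem co_mono (β γ : Fin N → ℕ) : co β (mono γ) = if γ = β then 1 else 0 := by
  rw [co, lcoeff_apply, mono, coeff_monomial]
  exact if_congr Finsupp.equivFunOnFinite.symm.injective.eq_iff rfl rfl

/-- The functional with prescribed values on monomials. -/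
noncomputable def pair (φ : (Fin N → ℕ) → ℂ) : Pl N →ₗ[ℂ] ℂ := (basisMonomials _ _).constr ℂ fun d => φ d

theorem pair_mono (φ : (Fin N → ℕ) → ℂ) (β : Fin N → ℕ) : pair φ (mono β) = φ β :=
  (basisMonomials _ _).constr_basis ℂ _ (fs β)

theorem lin_ext {V : Type*} [AddCommGroup V] [Module ℂ V] {f g : Pl N →ₗ[ℂ] V} (h : ∀ β, f (mono β) = g (mono β)) :
    f = g := (basisMonomials _ _).ext fun d => by simpa [mono, fs] using h d

theorem pair_psum (φ : (Fin N → ℕ) → ℂ) (k : ℕ) (v : Pl N) :
    pair φ (psum _ ℂ k * v) = pair (fun β => ∑ i, φ (β + Pi.single i k)) v :=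
  LinearMap.congr_fun (lin_ext (f := pair φ ∘ₗ LinearMap.mulLeft ℂ (psum _ ℂ k)) fun β => by
    simp only [LinearMap.comp_apply, LinearMap.mulLeft_apply, psum, sum_mul, map_sum, ← mono_single, ← mono_add,
      pair_mono, add_comm]) v

theorem pair_eq_sum (φ : (Fin N → ℕ) → ℂ) (v : Pl N) {T : Finset (Fin N → ℕ)} (h : ∀ β, co β v ≠ 0 → β ∈ T) :
    pair φ v = ∑ β ∈ T, co β v * φ β := by
  have : v = ∑ β ∈ T, co β v • mono β := MvPolynomial.ext _ _ fun d => by
    obtain ⟨β, rfl⟩ : ∃ β, fs β = d := Finsupp.equivFunOnFinite.symm.surjective d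
    change co β v = co β _
    simp only [map_sum, map_smul, co_mono, smul_eq_mul, mul_ite, mul_one, mul_zero, sum_ite_eq']
    split_ifs with e
    · rfl
    · exact by_contra fun n => e (h β n)
  conv_lhs => rw [this]
  simp only [map_sum, map_smul, pair_mono, smul_eq_mul]

/-- The sign as a complex number. -/
def sg {α : Type*} [DecidableEq α] [Fintype α] (w : Perm α) : ℂ := ((Perm.sign w : ℤ) : ℂ)

section
variable {α : Type*} [DecidableEq α] [Fintype α]

theorem sg_mul (v w : Perm α) : sg (v * w) = sg v * sg w := by simp [sg]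

theorem sg_sq (w : Perm α) : sg w * sg w = 1 := by rw [sg, ← Int.cast_mul, ← Units.val_mul, Int.units_mul_self]; simp

theorem sg_swap {i j : α} (h : i ≠ j) : sg (swap i j) = -1 := by simp [sg, h]
end

noncomputable def alt (N : ℕ) : Pl N := ∑ w : Perm (Fin N), sg w • mono fun i => w i

noncomputable def ap (N : ℕ) (μ : Multiset ℕ) : Pl N := (μ.map (psum _ ℂ)).prod * alt N

/-- The character value. -/
noncomputable def xv (β : Fin N → ℕ) (μ : Multiset ℕ) : ℂ := co β (ap N μ)

theorem ap_cons (k : ℕ) (μ : Multiset ℕ) : ap N (k ::ₘ μ) = psum _ ℂ k * ap N μ := by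
  rw [ap, Multiset.map_cons, Multiset.prod_cons, mul_assoc, ap]

theorem xv_cons (β : Fin N → ℕ) (k : ℕ) (μ : Multiset ℕ) :
    xv β (k ::ₘ μ) = ∑ i, if k ≤ β i then xv (β - Pi.single i k) μ else 0 := by
  simp only [xv, ap_cons, psum, sum_mul, map_sum, ← mono_single, co_mono_mul]
  refine sum_congr rfl fun i _ => if_congr ⟨fun h => by simpa using h i, fun h j => ?_⟩ rfl rfl
  by_cases e : j = i <;> simp [e, h]

theorem xv_zero (β : Fin N → ℕ) : xv β 0 = ∑ w : Perm (Fin N), if (fun i => (w i : ℕ)) = β then sg w else 0 := by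
  simp [xv, ap, alt, co_mono]

theorem xv_eq (β : Fin N → ℕ) (μ : Multiset ℕ) : xv β μ = co β (ap N μ) := rfl

attribute [irreducible] xv

theorem single_comp (σ : Perm (Fin N)) (i : Fin N) (k : ℕ) :
    (Pi.single (σ i) k : Fin N → ℕ) ∘ σ = Pi.single i k := by
  ext j; by_cases e : j = i <;> simp [e]

theorem xv_comp (σ : Perm (Fin N)) (β : Fin N → ℕ) (μ : Multiset ℕ) : xv (β ∘ σ) μ = sg σ * xv β μ := by
  induction μ using Multiset.induction_on generalizing β with
  | empty =>
    rw [xv_zero, xv_zero, mul_sum, ← Equiv.sum_comp (Equiv.mulRight σ)]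
    refine sum_congr rfl fun w _ => ?_
    rw [mul_ite, mul_zero, Equiv.coe_mulRight, sg_mul, mul_comm]
    exact if_congr (σ.surjective.right_cancellable (g₁ := fun i => (w i : ℕ))) rfl rfl
  | cons k μ ih =>
    rw [xv_cons, xv_cons, mul_sum, ← Equiv.sum_comp σ fun i => sg σ * _]
    refine sum_congr rfl fun i _ => ?_
    rw [mul_ite, mul_zero, ← ih, ← single_comp σ i k]; rfl

theorem eq_zero_of_anti {f : (Fin N → ℕ) → ℂ} (h : ∀ (σ : Perm (Fin N)) β, f (β ∘ σ) = sg σ * f β)
    (n : ¬ Function.Injective β) : f β = 0 := by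
  obtain ⟨i, j, e, n⟩ := Function.not_injective_iff.1 n
  have := h (swap i j) β
  rw [show β ∘ swap i j = β from funext fun x => apply_swap_eq_self e x, sg_swap n] at this
  linear_combination this / 2

theorem inj_of_xv (h : xv β μ ≠ 0) : Function.Injective β :=
  by_contra fun n => h (eq_zero_of_anti (f := fun β => xv β μ) (fun σ β => xv_comp σ β μ) n)

theorem exists_of_cons (h : xv β (k ::ₘ μ) ≠ 0) : ∃ i, k ≤ β i ∧ xv (β - Pi.single i k) μ ≠ 0 := by
  rw [xv_cons] at h
  obtain ⟨i, -, h⟩ := exists_ne_zero_of_sum_ne_zero h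
  exact ⟨i, ite_ne_right_iff.1 h⟩

theorem exists_of_zero (h : xv β 0 ≠ 0) : ∃ w : Perm (Fin N), (fun i => (w i : ℕ)) = β := by
  rw [xv_zero] at h
  obtain ⟨i, -, h⟩ := exists_ne_zero_of_sum_ne_zero h
  exact ⟨i, (ite_ne_right_iff.1 h).1⟩

theorem sum_sub_single {i : Fin N} (h : k ≤ β i) : ∑ j, (β - Pi.single i k : Fin N → ℕ) j + k = ∑ j, β j := by
  rw [← sum_erase_add _ _ (mem_univ i), ← sum_erase_add _ β (mem_univ i),
    sum_congr rfl fun j hj => show _ = β j by simp [ne_of_mem_erase hj], add_assoc]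
  congr 1; simp; omega

theorem sum_of_xv (h : xv β μ ≠ 0) : ∑ i, β i = μ.sum + ∑ i : Fin N, (i : ℕ) := by
  induction μ using Multiset.induction_on generalizing β with
  | empty => obtain ⟨w, rfl⟩ := exists_of_zero h; simpa using Equiv.sum_comp w fun i => (i : ℕ)
  | cons k μ ih =>
    obtain ⟨i, h1, h2⟩ := exists_of_cons h
    rw [← sum_sub_single h1, ih h2, Multiset.sum_cons]; omega

theorem fill (h : xv β μ ≠ 0) {t : ℕ} (ht : t + μ.sum < N) : ∃ j, β j = t := by
  induction μ using Multiset.induction_on generalizing β t with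
  | empty => obtain ⟨w, rfl⟩ := exists_of_zero h; exact ⟨w.symm ⟨t, ht⟩, by simp⟩
  | cons k μ ih =>
    obtain ⟨i, h1, h2⟩ := exists_of_cons h
    rw [Multiset.sum_cons] at ht
    obtain ⟨j, hj⟩ := ih h2 (t := t) (by omega)
    obtain ⟨j', hj'⟩ := ih h2 (t := t + k) (by omega)
    by_cases e : j = i
    · by_cases e' : j' = i
      · exact ⟨i, by simp [e, e'] at hj hj'; omega⟩
      · exact absurd (inj_of_xv h (a₁ := j') (a₂ := i) (by simp [e, e'] at hj hj'; omega)) e'
    · exact ⟨j, by simpa [e] using hj⟩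

theorem heis_aux (c : ℂ) (hγ : ¬ Function.Injective γ) : ∑ i, xv (γ + Pi.single i k) μ = c * xv γ ν := by
  rw [show xv γ ν = 0 from by_contra fun h => hγ (inj_of_xv h), mul_zero]
  refine eq_zero_of_anti (f := fun γ => ∑ i, xv (γ + Pi.single i k) μ) (fun σ β => ?_) hγ
  rw [mul_sum, ← Equiv.sum_comp σ fun i => sg σ * _]
  exact sum_congr rfl fun i _ => by rw [← xv_comp, ← single_comp σ i k]; rfl

theorem heis (hk : 0 < k) (hμ : μ.sum ≤ N) (γ : Fin N → ℕ) :
    ∑ i, xv (γ + Pi.single i k) μ = k * μ.count k * xv γ (μ.erase k) := by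
  induction μ using Multiset.induction_on generalizing γ
  all_goals refine (em (Function.Injective γ)).elim (fun hγ => ?_) (heis_aux _)
  · rw [Multiset.count_zero, Nat.cast_zero, mul_zero, zero_mul]
    refine sum_eq_zero fun i _ => by_contra fun h => ?_
    obtain ⟨w, hw⟩ := exists_of_zero h
    have := congrFun hw i
    obtain ⟨j, hj⟩ := fill h (t := γ i) (by have := (w i).2; simp at *; omega)
    by_cases e : j = i
    · simp [e] at hj; omega
    · exact e (hγ (by simpa [e] using hj))
  rename_i l μ ih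
  rw [Multiset.sum_cons] at hμ
  have e1 : ∑ i, xv (γ + Pi.single i k) (l ::ₘ μ) = k * μ.count k * xv γ (l ::ₘ μ.erase k) +
      ∑ i, if γ i < l ∧ l ≤ γ i + k then xv (γ + Pi.single i k - Pi.single i l) μ else 0 := by
    simp only [xv_cons, mul_sum, mul_ite, mul_zero, ← ih (by omega)]
    rw [sum_comm, ← sum_add_distrib]
    refine sum_congr rfl fun j _ => ?_
    split_ifs with h1 h2 h2
    · omega
    · rw [add_zero]
      refine sum_congr rfl fun i _ => (if_pos (h1.trans (by simp))).trans (congrArg (xv · μ) (funext fun x => ?_))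
      simp only [Pi.sub_apply, Pi.add_apply, Pi.single_apply]
      split_ifs <;> subst_vars <;> omega
    all_goals
      rw [zero_add, sum_eq_single j (fun i _ e => if_neg (by simpa [e.symm] using h1)) (by simp)]
      simp; omega
  rw [e1]
  by_cases e : k = l
  · subst e
    rw [Multiset.count_cons_self, Multiset.erase_cons_head]
    have : (μ.count k : ℂ) * xv γ (k ::ₘ μ.erase k) = μ.count k * xv γ μ := by
      by_cases h : k ∈ μ
      · rw [Multiset.cons_erase h]
      · simp [Multiset.count_eq_zero.2 h]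
    simp only [add_tsub_cancel_right, le_add_self, and_true, mul_assoc, this, ← sum_filter, sum_const, nsmul_eq_mul]
    by_cases h : xv γ μ = 0
    · simp [h]
    rw [card_bij (t := range k) (fun i _ => γ i) (by simp) (fun _ _ _ _ e => hγ e) fun t ht => by
      obtain ⟨j, rfl⟩ := fill h (t := t) (by simp at ht; omega)
      exact ⟨j, by simpa using ht, rfl⟩, card_range]
    push_cast; ring
  · rw [Multiset.count_cons_of_ne e, Multiset.erase_cons_tail _ (Ne.symm e), sum_eq_zero, add_zero]
    refine fun i _ => ite_eq_right_iff.2 fun h1 => by_contra fun h => ?_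
    obtain ⟨j, hj⟩ := fill h (t := γ i) (by omega)
    by_cases e : j = i
    · simp [e] at hj; omega
    · exact e (hγ (by simpa [e] using hj))

theorem pair_ap_cons {w : (Fin N → ℕ) → ℂ} (hk : 0 < k) (hν : ν.sum ≤ N)
    (hw : ∀ β i, w (β + Pi.single i k) = w β) (v : Pl N) :
    pair (fun β => w β * xv β ν) (psum _ ℂ k * v) = k * ν.count k * pair (fun β => w β * xv β (ν.erase k)) v := by
  rw [pair_psum]
  refine LinearMap.congr_fun (lin_ext (g := (k * ν.count k : ℂ) • pair _) fun β => ?_) v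
  simp only [pair_mono, hw, ← mul_sum, heis hk hν, LinearMap.smul_apply, smul_eq_mul]; ring

/-- The centralizer order. -/
def zc (μ : Multiset ℕ) : ℕ := μ.prod * ∏ k ∈ μ.toFinset, (μ.count k).factorial

theorem zc_cons (k : ℕ) (μ : Multiset ℕ) : zc (k ::ₘ μ) = k * (μ.count k + 1) * zc μ := by
  have : ∀ μ : Multiset ℕ, ∏ j ∈ μ.toFinset, (μ.count j).factorial =
      (μ.count k).factorial * ∏ j ∈ μ.toFinset.erase k, (μ.count j).factorial := fun μ => by
    by_cases h : k ∈ μ
    · rw [mul_prod_erase _ (fun j => (μ.count j).factorial) (by simpa)]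
    · rw [erase_eq_of_notMem (by simpa)]; simp [h]
  rw [zc, zc, this, this μ, Multiset.toFinset_cons, erase_insert_eq_erase, Multiset.prod_cons, Multiset.count_cons_self,
    prod_congr rfl fun j hj => by rw [Multiset.count_cons_of_ne (ne_of_mem_erase hj)], Nat.factorial_succ]
  ring

theorem orth (h0 : 0 ∉ μ) (h1 : 0 ∉ ν) (e : μ.sum = ν.sum) (hν : ν.sum ≤ N) :
    pair (fun β => xv β ν) (ap N μ) = if μ = ν then (N.factorial * zc μ : ℂ) else 0 := by
  induction μ using Multiset.induction_on generalizing ν with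
  | empty =>
    obtain rfl : ν = 0 := Multiset.eq_zero_of_forall_notMem fun x hx =>
      h1 (Multiset.sum_eq_zero_iff.1 e.symm x hx ▸ hx)
    have : ∀ w : Perm (Fin N), xv (fun i => (w i : ℕ)) 0 = sg w := fun w => by
      rw [xv_zero, sum_eq_single w (fun v _ n => if_neg fun e => n (Equiv.ext fun i => Fin.ext (congrFun e i))) (by simp),
        if_pos rfl]
    simp [ap, alt, pair_mono, this, sg_sq, zc, Fintype.card_perm]
  | cons k μ ih =>
    have hk : 0 < k := Nat.pos_of_ne_zero fun e => h0 (by simp [e])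
    have := pair_ap_cons (w := fun _ => 1) hk hν (fun _ _ => rfl) (ap N μ)
    simp only [one_mul] at this
    rw [ap_cons, this]
    by_cases h : k ∈ ν
    · obtain ⟨ν, rfl⟩ := Multiset.exists_cons_of_mem h
      simp only [Multiset.sum_cons, Multiset.mem_cons, not_or] at h0 h1 e hν
      rw [Multiset.erase_cons_head, ih h0.2 h1.2 (by omega) (by omega), zc_cons]
      by_cases f : μ = ν <;> simp [f]; ring
    · rw [Multiset.count_eq_zero.2 h, if_neg fun f => h (by simp [← f])]; simp

end Cfsg.Lib.SnCh
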