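import Cfsg.Agent.Lib.Block.Pim
import Cfsg.Agent.Lib.Block.Graded
import Cfsg.Agent.Lib.Clifford.Basic

/-! Blocks and normal subgroups of small index. -/

set_option autoImplicit false
set_option maxHeartbeats 400000

namespace Cfsg.Lib.SnCh

open Finset Cfsg.Lib.Char Cfsg.Lib.Block Cfsg.Lib.Modular Cfsg.Lib.Clifford Cfsg.Lib.Induce Subgroup

variable {G : Type*} [Group G] [Fintype G] {p : ℕ} [hp : Fact p.Prime] {M : Ideal AlgInt} [Modular p M]

theorem exists_degree_eq (hG : IsPGroup p G) {H : Subgroup G} (hi : H.index = p ^ 2) (hn : ¬ H.Normal) :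
    ∃ φ : IrrCharacter G, charDegree (φ : G → ℂ) = p := by
  classical
  by_contra n
  have e := indFun_eq_sum_irr H (θ := fun _ => 1) isCharacter_one.isGeneralizedCharacter
  choose m hm using fun χ : IrrCharacter G => (χ.2.isCharacter.restrict H).exists_inner_eq_nat isCharacter_one
  have e1 : p ^ 2 = ∑ χ : IrrCharacter G, m χ * charDegree (χ : G → ℂ) := by
    have := congrFun e 1
    simp only [indFun_one, hi, mul_one, Finset.sum_apply, hm, Pi.smul_apply, smul_eq_mul,
      fun χ : IrrCharacter G => apply_one_eq_charDegree χ.2.isCharacter] at this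
    exact_mod_cast this
  have k : ∀ χ : IrrCharacter G, m χ ≠ 0 → (χ : G → ℂ) 1 = 1 := fun χ h => by
    obtain ⟨d, hd⟩ := hG.exists_card_eq
    obtain ⟨j, -, hj⟩ := (Nat.dvd_prime_pow hp.out).1 (hd ▸ χ.2.charDegree_dvd_card)
    rcases j with _ | _ | j
    · rw [apply_one_eq_charDegree χ.2.isCharacter, hj]; simp
    · exact absurd ⟨χ, by simpa using hj⟩ n
    by_contra f
    have := add_le_sum (f := fun χ : IrrCharacter G => m χ * charDegree (χ : G → ℂ)) (fun _ _ => Nat.zero_le _)
      (mem_univ χ) (mem_univ ⟨_, isIrrCharacter_one⟩) fun e => f (e ▸ rfl)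
    have a : m ⟨_, isIrrCharacter_one⟩ = 1 := Nat.cast_injective (R := ℂ)
      ((hm ⟨_, isIrrCharacter_one⟩).symm.trans ((isIrrCharacter_one (G := H)).inner_self.trans Nat.cast_one.symm))
    have := charDegree_ne_zero (isIrrCharacter_one (G := G))
    have := Nat.pow_le_pow_right hp.out.pos (show 2 ≤ j + 1 + 1 by omega)
    have := Nat.le_mul_of_pos_left (charDegree (χ : G → ℂ)) (Nat.pos_of_ne_zero h)
    simp only [a] at *
    omega
  refine hn ⟨fun g hg x => ((indFun_apply_eq_apply_one_iff H isCharacter_one one_ne_zero g).1 ?_ x).1⟩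
  simp only [e, Finset.sum_apply, Pi.smul_apply, hm]
  refine sum_congr rfl fun χ _ => (eq_or_ne (m χ) 0).elim (by simp +contextual) fun h => ?_
  rw [k χ h, show (χ : G → ℂ) g = 1 from congrFun (((χ.2.isCharacter.restrict H).isIrrCharacter_of_apply_one
    (k χ h)).eq_of_inner_ne_zero isIrrCharacter_one (hm χ ▸ Nat.cast_ne_zero.2 h)) ⟨g, hg⟩]

variable {N : Subgroup G} [N.Normal] [Fintype N] {B : Set (IrrCharacter G)} {b : Set (IrrCharacter N)}

theorem idx2 (hN : N.index = 2) {χ : G → ℂ} (hχ : IsIrrCharacter G χ) {θ : N → ℂ} (hθ : IsIrrCharacter N θ)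
    (h : classInner (fun n : N => χ n) θ ≠ 0) :
    (fun n : N => χ n) = θ ∨ (∀ g ∉ N, χ g = 0) ∧ charDegree χ = 2 * charDegree θ := by
  have e := relIndex_mul_index (le_inertia N hθ.isClassFunction)
  rcases (Nat.dvd_prime Nat.prime_two).1 ⟨_, hN.symm.trans e.symm⟩ with l | l
  · obtain rfl := hχ.eq_of_inner_ne_zero (isIrrCharacter_indFun_of_inertia_le N hθ (relIndex_eq_one.1 l))
      (frobenius_reciprocity' N θ hχ.isClassFunction ▸ h)
    exact .inr ⟨fun g => indFun_normal_of_not_mem N θ, charDegree_eq (by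
      rw [indFun_one, hN, apply_one_eq_charDegree hθ.isCharacter, Nat.cast_mul])⟩
  · obtain ⟨k, h1, h2, h3⟩ := exists_res_eq_smul_of_invariant N hχ hθ h ((inertia_eq_top_iff N).1 (index_eq_one.1 (by
      rw [l, hN] at e; omega)))
    choose m hm using fun χ : IrrCharacter G => (χ.2.isCharacter.restrict N).exists_inner_eq_nat hθ.isCharacter
    have := sum_sq_classInner_res N hθ
    simp only [hm, l] at this
    have a := (single_le_sum (f := fun χ => m χ ^ 2) (fun _ _ => Nat.zero_le _) (mem_univ ⟨χ, hχ⟩)).trans_eq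
      (c := 2) (by exact_mod_cast this)
    obtain rfl : m ⟨χ, hχ⟩ = k := Nat.cast_injective (R := ℂ) ((hm ⟨χ, hχ⟩).symm.trans h2)
    exact .inl (by rw [h3, show m ⟨χ, hχ⟩ = 1 by nlinarith]; simp)

omit hp [N.Normal] [Fintype N] [Fintype G] in
theorem reg_res (χ : G → ℂ) : pRegularPart p (fun n : N => χ n) = LinearMap.funLeft ℂ ℂ Subtype.val (pRegularPart p χ) :=
  funext fun n => by classical exact if_congr (by rw [IsPRegular, IsPRegular, orderOf_coe]) rfl rfl

omit hp [N.Normal] [Fintype N] in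
theorem blockRank_le_of_res (h : ∀ θ ∈ b, ∃ χ ∈ B, (fun n : N => (χ : G → ℂ) n) = θ) : blockRank p b ≤ blockRank p B := by
  refine (Submodule.finrank_mono (Submodule.span_le.2 ?_)).trans
    (Submodule.finrank_map_le (LinearMap.funLeft ℂ ℂ (Subtype.val : N → G)) _)
  rintro _ ⟨θ, a, rfl⟩
  obtain ⟨χ, c, e⟩ := h θ a
  exact ⟨_, Submodule.subset_span ⟨χ, c, rfl⟩, by simp only [← e, reg_res]⟩

theorem blockRank_le_mul (hB : IsPBlock M B) (hb : IsPBlock M b) (h : Covers N.subtype B b) :
    blockRank p b ≤ N.index * blockRank p B := by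
  classical
  obtain ⟨A, hA⟩ : ∃ A : Set (IrrCharacter N), ∀ {θ}, θ ∈ A ↔ ∃ χ ∈ B, classInner (fun n : N => (χ : G → ℂ) n) θ ≠ 0 :=
    ⟨{θ | _}, Iff.rfl⟩
  have k : ∀ {b}, IsPBlock M b → Covers N.subtype B b → b ⊆ A := fun hb h θ a =>
    hA.2 ((h.exists_over hB hb a).imp fun χ c => ⟨c.1, (over_subtype_iff χ θ).1 c.2⟩)
  have c : ∀ θ ∈ A, blockOf M (θ : N → ℂ) ⊆ A := fun θ l => (hA.1 l).elim fun χ c =>
    k (isPBlock_blockOf θ) (((over_subtype_iff χ θ).2 c.2).covers c.1 (mem_blockOf_self θ))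
  have r : ∀ {f}, InSpan A f → IsClassFunction N f → InSpan A (pRegularPart p f) := fun a d ψ l =>
    a.regInner_eq_zero Modular.out d fun θ e s => l (c θ e s)
  choose n hn using fun g : G => exists_sum_regInner_comp (p := p) (fblk_mem_SG_of_closed c) (MulAut.conjNormal g)
  let P : (N → ℂ) →ₗ[ℂ] N → ℂ := (Nat.card G : ℂ)⁻¹ • ∑ g : G, ∑ θ with θ ∈ A,
    (innerLin (θ : N → ℂ)).smulRight (pRegularPart p (conjChar N g θ))
  have c0 : (Nat.card G : ℂ) ≠ 0 := Nat.cast_ne_zero.2 Nat.card_pos.ne'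
  have hP : LinearMap.IsProj ((Submodule.span ℂ ((fun χ : IrrCharacter G => pRegularPart p (χ : G → ℂ)) '' B)).map
      (LinearMap.funLeft ℂ ℂ (Subtype.val : N → G))) P := by
    refine ⟨fun f => ?_, ?_⟩
    · simp only [P, LinearMap.smul_apply, LinearMap.sum_apply, LinearMap.smulRight_apply, ← regLin_apply]
      rw [sum_comm]
      refine Submodule.smul_mem _ _ (Submodule.sum_mem _ fun θ a => ?_)
      obtain ⟨χ, a, d⟩ := hA.1 (mem_filter.1 a).2
      rw [← smul_sum, ← map_sum, ← inv_smul_smul₀ d (∑ _, _), ← clifford_sum_group N χ.2 θ.2 d, map_smul, map_smul,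
        regLin_apply, reg_res]
      exact Submodule.smul_mem _ _ (Submodule.smul_mem _ _ (Submodule.smul_mem _ _
        ⟨_, Submodule.subset_span ⟨χ, a, rfl⟩, rfl⟩))
    · rw [Submodule.map_span, ← Set.image_comp]
      refine fun f hf => LinearMap.eqOn_span' (g := LinearMap.id) ?_ hf
      rintro _ ⟨χ, a, rfl⟩
      have d := χ.2.isClassFunction.restrict N
      have := (r (fun θ l => by_contra fun e => l (hA.2 ⟨χ, a, e⟩)) d).eq_sum (isClassFunction_pRegularPart d)
      have e : ∀ g, ∑ θ with θ ∈ A, classInner (pRegularPart p fun n : N => (χ : G → ℂ) n) θ •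
          pRegularPart p (conjChar N g θ) = pRegularPart p fun n : N => (χ : G → ℂ) n := fun g => by
        have := congrArg (fun f => regLin p N (conjChar N g f)) this
        simp only [conjChar_sum, conjChar_smul, map_sum, map_smul, regLin_apply] at this
        rw [← this]
        refine (congrArg _ ?_).trans (pRegularPart_idem _)
        rw [reg_res]
        exact conjChar_res N (isClassFunction_pRegularPart χ.2.isClassFunction) g
      simp [P, ← reg_res, e, ← Nat.cast_smul_eq_nsmul ℂ, ← Nat.card_eq_fintype_card, c0, -nsmul_eq_mul]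
  have t := hP.trace
  simp only [P, map_smul, map_sum, LinearMap.trace_smulRight, smul_eq_mul] at t
  replace t := (sum_congr rfl fun g _ => hn g).symm.trans ((inv_mul_eq_iff_eq_mul₀ c0).1 t)
  have a : ∀ g ∈ N, n g = blockRank p A := fun g hg => Nat.cast_injective (R := ℂ) (by
    rw [← hn, blockRank_eq_sum_of_inSpan fun θ l => r (inSpan_of_mem l) θ.2.isClassFunction]
    exact sum_congr rfl fun θ _ => congrArg (regInner p · _) (conjChar_of_mem N θ.2.isClassFunction hg))
  have l1 : blockRank p b ≤ blockRank p A := Submodule.finrank_mono (Submodule.span_mono (Set.image_mono (k hb h)))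
  have l2 := sum_le_sum_of_subset (f := n) (filter_subset (· ∈ N) univ)
  rw [sum_congr rfl fun g hg => a g (mem_filter.1 hg).2, sum_const, smul_eq_mul, ← Fintype.card_subtype,
    ← Nat.card_eq_fintype_card, show ∑ g, n g = _ by exact_mod_cast t, ← N.card_mul_index, mul_assoc] at l2
  exact l1.trans ((Nat.le_of_mul_le_mul_left l2 Nat.card_pos).trans
    (Nat.mul_le_mul_left _ (Submodule.finrank_map_le _ _)))

theorem exists_defect (hB : IsPBlock M B) (hb : IsPBlock M b) (h : Covers N.subtype B b) {D : Subgroup N}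
    (hD : IsDefectGroup p M b D) : ∃ P, IsDefectGroup p M B P ∧ P.subgroupOf N = D ∧
      p ^ blockDefect p B = N.relIndex P * p ^ blockDefect p b := by
  have e : (D.map N.subtype).subgroupOf N = D := comap_map_eq_self_of_injective N.subtype_injective D
  obtain ⟨P, h1, h2⟩ := hB.isBlkIdem_top.exists_isDefIn_inf_eq hb.isBlkIdem le_top le_normalizer_top
    ((hB.covers_iff_mul_ebl hb).1 h) ((hb.isDefectGroup_iff_isDefIn (map_subtype_le D)).1 (by rwa [e]))
  replace h1 := hB.isDefectGroup_iff_isDefIn_top.2 h1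
  refine ⟨P, h1, by rw [← inf_subgroupOf_right, h2, e], ?_⟩
  rw [← hB.card_defectGroup h1, ← hb.card_defectGroup hD, ← card_map_of_injective N.subtype_injective, ← h2,
    ← (N.subgroupOf P).index_mul_card, ← card_map_of_injective P.subtype_injective, subgroupOf_map_subtype, inf_comm]
  rfl

end Cfsg.Lib.SnCh
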