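import Cfsg.Agent.Lib.SnCh.Char
import Cfsg.Agent.Lib.Block.DefectOrder

/-! Local analysis of the blocks of the symmetric groups at a product of `p`-cycles. -/

set_option autoImplicit false
set_option maxHeartbeats 400000

namespace Cfsg.Lib.SnCh

open Finset Equiv Cfsg.Lib.Char Cfsg.Lib.Block Cfsg.Lib.Modular Subgroup MonoidAlgebra
open scoped ComplexConjugate

variable {p : ℕ} [hp : Fact p.Prime] {M : Ideal AlgInt} [Modular p M]

open Classical in
theorem fblk_mem_SG_of_orth {G : Type*} [Group G] [Finite G] {U : Set (IrrCharacter G)}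
    (h : ∀ x y, p ∣ orderOf x → ¬ p ∣ orderOf y → ∑ χ with χ ∈ U, (χ : G → ℂ) x * conj ((χ : G → ℂ) y) = 0) :
    fblk U ∈ SG G M := fun g => by
  rw [coeff_fblk, blockCoeff_eq]
  by_cases hg : p ∣ orderOf g
  · have := congrArg conj (h g 1 hg (not_dvd_orderOf_one hp.out))
    simp only [map_sum, map_mul, Complex.conj_conj, map_zero, mul_comm (conj _)] at this
    rw [this, mul_zero]; exact zero_mem _
  obtain ⟨P⟩ : Nonempty (Sylow p G) := inferInstance
  have := Fintype.ofFinite P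
  choose n hn using fun χ : IrrCharacter G => exists_ev_ssum_eq χ.2.isCharacter P
  have : ∑ χ with χ ∈ U, (χ : G → ℂ) 1 * conj ((χ : G → ℂ) g) =
      Nat.card P * ∑ χ with χ ∈ U, n χ * (χ : G → ℂ) g⁻¹ := by
    simp only [mul_sum, ← mul_assoc, ← hn, ev_ssum_subgroup, sum_mul, fun χ : IrrCharacter G => χ.2.isCharacter.apply_inv g]
    rw [sum_comm, sum_eq_single 1 (fun u _ hu => h _ _ ?_ hg) (by simp)]
    · rfl
    · obtain ⟨k, hk⟩ := pElt_of_mem hp.out P.2 u.2
      exact hk ▸ dvd_pow_self p fun e => hu (Subtype.ext (orderOf_eq_one_iff.1 (by rw [hk, e, pow_zero])))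
  rw [this, ← mul_assoc, ← P.1.card_mul_index, Nat.cast_mul, mul_inv, mul_right_comm _ _ (Nat.card P : ℂ),
    inv_mul_cancel₀ (Nat.cast_ne_zero.2 Nat.card_pos.ne'), one_mul]
  exact mul_mem (natCast_inv_mem P.not_dvd_index) (sum_mem fun χ _ => mul_mem (natCast_mem _ _) (char_mem χ.2.isCharacter _))

variable {α : Type*} [DecidableEq α] [Fintype α] {g z : Perm α} {μ : Multiset ℕ}

theorem dvd_orderOf_iff : p ∣ orderOf g ↔ ∃ k ∈ typ g, p ∣ k := by
  rw [← Perm.lcm_cycleType, typ_eq]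
  refine ⟨fun h => ?_, fun ⟨k, h1, h2⟩ => h2.trans ((Multiset.mem_add.1 h1).elim Multiset.dvd_lcm fun h => ?_)⟩
  · obtain ⟨k, h1, h2⟩ := hp.out.prime.exists_mem_multiset_dvd (h.trans (Multiset.lcm_dvd.2 fun _ => Multiset.dvd_prod))
    exact ⟨k, Multiset.mem_add.2 (.inl h1), h2⟩
  · simp [Multiset.eq_of_mem_replicate h]

theorem exists_typ (h0 : 0 ∉ μ) (hs : μ.sum = Fintype.card α) : ∃ g : Perm α, typ g = μ := by
  have e := Multiset.filter_add_not (2 ≤ ·) μ
  have e' : μ.filter (¬ 2 ≤ ·) = .replicate _ 1 := Multiset.eq_replicate_card.2 fun k hk => by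
    have := (Multiset.mem_filter.1 hk).2
    have : k ≠ 0 := fun e => h0 (e ▸ (Multiset.mem_filter.1 hk).1)
    omega
  have e'' := congrArg Multiset.sum e
  rw [e', Multiset.sum_add, Multiset.sum_replicate, smul_eq_mul, mul_one] at e''
  obtain ⟨g, hg⟩ := (Perm.exists_with_cycleType_iff α (m := μ.filter (2 ≤ ·))).2
    ⟨by omega, fun k hk => (Multiset.mem_filter.1 hk).2⟩
  exact ⟨g, by rw [typ_eq, hg, ← hs, ← e'', add_tsub_cancel_left, ← e', e]⟩

theorem sign_typ (g : Perm α) : Perm.sign g = (-1) ^ ((typ g).sum + (typ g).card) := by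
  simp [typ_eq, Perm.sign_of_cycleType, add_add_add_comm _ (_ - _), ← two_mul, pow_add _ _ (2 * _)]

theorem typ_one : typ (1 : Perm α) = .replicate (Fintype.card α) 1 := by simp [typ_eq]

/-- The permutations of the fixed points of `z`. -/
abbrev io (z : Perm α) : Perm {x // x ∉ z.support} →* Perm α := Perm.ofSubtype

theorem disjoint_io (y : Perm {x // x ∉ z.support}) : (io z y).Disjoint z := fun x =>
  (em (x ∈ z.support)).imp (fun h => Perm.ofSubtype_apply_of_not_mem y (not_not.2 h)) Perm.notMem_support.1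

theorem typ_io (y : Perm {x // x ∉ z.support}) : typ (io z y * z) = z.cycleType + typ y := by
  rw [typ_eq, typ_eq, (disjoint_io y).cycleType_mul, Perm.cycleType_ofSubtype, Fintype.card_subtype_compl,
    Fintype.card_coe, ← Perm.sum_cycleType, Multiset.sum_add, add_comm y.cycleType, add_comm y.cycleType.sum, add_assoc,
    Nat.sub_sub]

omit hp in
theorem pow_apply_of_sameCycle (hz : z ^ p = 1) (hc : Commute z g) {x : α} (h : z.SameCycle x (g x)) :
    (g ^ p) x = x := by
  obtain ⟨k, hk⟩ := h.exists_nat_pow_eq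
  have : ∀ j, (g ^ j) x = ((z ^ k) ^ j) x := fun j => by
    induction j with
    | zero => rfl
    | succ j ih => rw [pow_succ, Perm.mul_apply, ← hk, ← Perm.mul_apply, ← (hc.pow_pow k j).eq, Perm.mul_apply, ih,
        pow_succ', Perm.mul_apply]
  rw [this, pow_right_comm, hz, one_pow, Perm.one_apply]

variable {B B' : Set (IrrCharacter (Perm α))}

theorem br_mem_supp_io (hz : z ^ p = 1) (hB : IsPBlock M B) :
    br (zpowers z) (eblk M B) ∈ supp (Res M) (io z).range := fun g hg => by_contra fun n => hg (by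
  have hZ := isPGroup_zpowers hp.out ((pElt_iff_pow hp.out).2 ⟨1, by simpa using hz⟩)
  let H := centralizer (zpowers z : Set (Perm α))
  have hH : ∀ {y}, y ∈ H ↔ Commute z y := by
    simp only [H, zpowers_eq_closure, centralizer_closure, mem_centralizer_singleton_iff]; exact eq_comm
  let E : Subgroup H := ⟨⟨⟨{y | ∀ x, z.SameCycle x (y.1 x)}, fun {a b} ha hb x => (hb x).trans (ha _)⟩,
    fun x => .refl z x⟩, fun {a} ha x => by simpa using (ha (a.1⁻¹ x)).symm⟩
  have : E.Normal := ⟨fun y hy a x => by simpa [← (hH.1 a.2).eq] using (hy (a.1⁻¹ x)).conj (g := a.1)⟩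
  have hE : IsPGroup p E := fun y => ⟨1, Subtype.ext (Subtype.ext (Equiv.ext fun x => by
    simpa using pow_apply_of_sameCycle hz (hH.1 y.1.2) (y.2 x)))⟩
  have m : g ∈ H := mem_of_coeff_ne_zero (br_mem_supp _ _) n
  have r := hB.not_dvd_of_coeff_eblk (coeff_trunc_of_mem (eblk M B) m ▸ n)
  have := br_eq_self_of_idem hE (res_subtype_mem_fix_top H (br_mem_fix (centralizer_le_normalizer _) (eblk_mem_fix' B H)))
    (res_br_idem hZ le_rfl (eblk_mem_fix' B _) hB.eblk_idem)
  have c := mem_of_coeff_ne_zero (this ▸ br_mem_supp E _) (g := ⟨g, m⟩) n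
  have f : ∀ x ∈ z.support, g x = x := fun x hx => by
    have := congrArg (fun y : H => y.1 x) (c ⟨z.cycleOf x, hH.2 (Perm.self_mem_cycle_factors_commute
      (Perm.cycleOf_mem_cycleFactorsFinset_iff.2 hx)).symm⟩ fun y => by
        simp only [Perm.cycleOf_apply]; split_ifs <;> simp [Perm.SameCycle.rfl])
    have s : z.SameCycle x (g x) := by_contra fun s => Perm.mem_support.1 hx (by
      simpa [Perm.cycleOf_apply_of_not_sameCycle s, eq_comm] using this)
    obtain ⟨j, hj⟩ := exists_pow_eq_self_of_coprime ((hp.out.coprime_iff_not_dvd).2 r)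
    rw [← hj, Perm.pow_apply_eq_self_of_apply_eq_self (pow_apply_of_sameCycle hz (hH.1 m) s)]
  exact ⟨g.subtypePerm fun x => not_congr ⟨fun h => g.injective (f _ h) ▸ h, fun h => (f x h).symm ▸ h⟩,
    Perm.ofSubtype_subtypePerm _ fun x h => mt (f x) h⟩)

theorem res_br_mem_fix (z : Perm α) (B : Set (IrrCharacter (Perm α))) :
    res (io z) (br (zpowers z) (eblk M B)) ∈ fix (Res M) ⊤ := res_mem_fix_top _ (br_mem_fix (by
  rintro _ ⟨y, rfl⟩
  refine centralizer_le_normalizer _ ?_
  rw [zpowers_eq_closure, centralizer_closure, mem_centralizer_singleton_iff]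
  exact (disjoint_io y).commute) (eblk_mem_fix' B _))

theorem lam_res_br (hz : z ^ p = 1) (hB : IsPBlock M B) {χ : IrrCharacter (Perm α)} (hχ : χ ∈ B)
    {ξ : IrrCharacter (Perm {x // x ∉ z.support})} {c : ℂ} (hc : c ≠ 0)
    (h : ∀ y, (χ : Perm α → ℂ) (io z y * z) = c * (ξ : _ → ℂ) y) :
    lam M (ξ : _ → ℂ) (res (io z) (br (zpowers z) (eblk M B))) = 1 := by
  have hz' := (pElt_iff_pow hp.out).2 ⟨1, by simpa using hz⟩
  have hZ := isPGroup_zpowers hp.out hz'
  have s := br_mem_supp_io hz hB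
  have i : br (zpowers z) (eblk M B) * br (zpowers z) (eblk M B) = br (zpowers z) (eblk M B) := by
    rw [← br_mul hZ (eblk_mem_fix' B _) (eblk_mem_fix' B _), hB.eblk_idem]
  have e := eq_eblk_of_idem (res_br_mem_fix (M := M) z B) (by rw [← res_mul_of_supp_left Perm.ofSubtype_injective s, i])
  have hA := fblk_mem_SG_of_closed (closed_lam_eq (res (io z) (br (zpowers z) (eblk M B))) 1)
  by_contra n
  set A := {ξ : IrrCharacter (Perm {x // x ∉ z.support}) |
    lam M (ξ : _ → ℂ) (res (io z) (br (zpowers z) (eblk M B))) = 1}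
  have hA' : fblk Aᶜ ∈ SG _ M := fblk_compl A ▸ sub_mem (one_mem _) hA
  have f : ∀ {R : Type} [CommRing R] (a : R[Perm {x // x ∉ z.support}]), emb (io z) a ∈ fix R (zpowers z) := fun a =>
    mem_fix_of_supp_centralizer (supp_mono (by
      rintro _ ⟨y, rfl⟩
      rw [zpowers_eq_closure, centralizer_closure, mem_centralizer_singleton_iff]
      exact (disjoint_io y).commute) (emb_mem_supp _ a))
  have := ev_mul_of_eq_zero (M := M) χ.2.isClassFunction (mul_mem hB.fblk_mem_SG (emb_mem_SG (io z) hA'))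
    (by rw [(commute_of_fix_top (fblk_mem_fix B) _).mul_mul_mul_comm, fblk_idem, ← map_mul, fblk_idem]) (h := z)
    (mul_mem (mem_fix_of_top (fblk_mem_fix B)) (f _) z (mem_zpowers z)) (by
      rw [pPart_of_pElt hp.out hz', redA_mul hB.fblk_mem_SG (emb_mem_SG _ hA'), redA_emb _ hA', ← eblk, ← eblk,
        br_mul hZ (eblk_mem_fix' B _) (f _), eblk_compl hA, ← e, map_sub, map_one,
        emb_res_of_supp Perm.ofSubtype_injective s, map_sub, br_one, br_br_of_le le_rfl, mul_sub, i, mul_one, sub_self])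
  rw [mul_assoc, ev_fblk_mul_of_mem hχ, ev_mul_of', ev_emb, funext h, ← mul_one (fblk _)] at this
  exact mul_ne_zero hc ξ.2.apply_one_ne_zero (by
    rw [← this, ← ev_one ξ.1, ← ev_fblk_mul_of_mem (B := Aᶜ) n, ← ev_smul_left]; rfl)

theorem eq_of_lam_res_br (hz : z ^ p = 1) (hB : IsPBlock M B) (hB' : IsPBlock M B')
    {ξ : IrrCharacter (Perm {x // x ∉ z.support})} (h : lam M (ξ : _ → ℂ) (res (io z) (br (zpowers z) (eblk M B))) = 1)
    (h' : lam M (ξ : _ → ℂ) (res (io z) (br (zpowers z) (eblk M B'))) = 1) : B = B' := hB.eq_of_mul_ne_zero hB' fun e => by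
  have := lam_mul ξ.2 (res_br_mem_fix (M := M) z B) (res_br_mem_fix z B')
  rw [h, h', ← res_mul_of_supp_left Perm.ofSubtype_injective (br_mem_supp_io hz hB), ← br_mul (isPGroup_zpowers hp.out
    ((pElt_iff_pow hp.out).2 ⟨1, by simpa using hz⟩)) (eblk_mem_fix' B _) (eblk_mem_fix' B' _), e] at this
  simp at this

theorem br_ne_zero_of_lam {ξ : IrrCharacter (Perm {x // x ∉ z.support})}
    (h : lam M (ξ : _ → ℂ) (res (io z) (br (zpowers z) (eblk M B))) = 1) {Q : Subgroup (Perm α)}
    (hQ : ∀ y ∈ Q, ∀ x ∉ z.support, y x = x) : br Q (eblk M B) ≠ 0 := by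
  obtain ⟨g, hg⟩ := (ne_zero_iff_coeff (a := res (io z) (br (zpowers z) (eblk M B)))).1 fun e => by simp [e] at h
  refine br_ne_zero_iff.2 ⟨io z g, fun y hy => Perm.Disjoint.commute fun x => (em (x ∈ z.support)).symm.imp (hQ y hy x)
    fun h => Perm.ofSubtype_apply_of_not_mem g (not_not.2 h), fun e => hg ?_⟩
  rw [coeff_res, coeff_trunc, e, ite_self]

end Cfsg.Lib.SnCh
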