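import Cfsg.Agent.Lib.SnCh.Core

/-! A spanning set for the regular parts of the characters with a given core. -/

set_option autoImplicit false
set_option maxHeartbeats 400000

namespace Cfsg.Lib.SnCh

open Finset Equiv Function MvPolynomial
open scoped Pointwise

section
variable {M ι : Type*} [CommMonoid M] {P : ι → ℕ → M} {w : ℕ} {s : M}

/-- Products of total weight `w`. -/
inductive In (P : ι → ℕ → M) : ℕ → M → Prop
  | one : In P 0 1
  | mul (i : ι) {j w : ℕ} {s : M} : j < w → In P j s → In P w (P i (w - j) * s)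

variable [Fintype ι] [DecidableEq M]

theorem In.inv (h : In P w s) :
    s ∈ (univ.image (P · 1)) ^ w ∨ ∃ j, j + 1 < w ∧ ∃ i t, In P j t ∧ P i (w - j) * t = s := by
  induction h with
  | one => simp
  | @mul i j w s l h ih =>
    obtain rfl | l := (Nat.succ_le_of_lt l).eq_or_lt
    · rcases ih with ih | ⟨j', l', i', t, h', rfl⟩
      · exact .inl (by rw [pow_succ']; exact mul_mem_mul (by simp) ih)
      · exact .inr ⟨j' + 1, by omega, i', _, h'.mul i (lt_add_one j'), by simp [mul_left_comm]⟩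
    · exact .inr ⟨j, l, i, s, h, rfl⟩

theorem exists_cover (P : ι → ℕ → M) : ∃ F : ℕ → Finset M, (∀ w s, In P w s → s ∈ F w) ∧ ∀ w,
    (0 < w → #(F w) < (Fintype.card ι + 1) ^ w) ∧ (#(F 0) ≤ 1) ∧ (3 ≤ w → 2 * #(F w) < (Fintype.card ι + 1) ^ w) := by
  have f : ∀ w, {s | In P w s}.Finite := fun w => by
    induction w using Nat.strong_induction_on with | _ w ih => ?_
    refine ((Set.finite_singleton 1).union ((Set.finite_Iio w).biUnion' fun j hj =>
      (Set.finite_range (P · (w - j))).mul (ih j hj))).subset fun s h => ?_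
    cases h with
    | one => exact .inl rfl
    | mul i l h => exact .inr (Set.mem_biUnion l (Set.mul_mem_mul ⟨i, rfl⟩ h))
  set a := Fintype.card ι
  have k : ∀ w n, #((range n).biUnion fun j => univ.image (P · (w - j)) * (f j).toFinset) ≤
      a * ∑ j ∈ range n, #(f j).toFinset := fun w n => mul_sum _ _ a ▸
    card_biUnion_le.trans (sum_le_sum fun j _ => card_mul_le.trans (Nat.mul_le_mul_right _ card_image_le))
  have h0 : #(f 0).toFinset ≤ 1 := (card_le_card (t := {1}) fun s h => by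
    cases (f 0).mem_toFinset.1 h with
    | one => simp
    | mul i l h => omega).trans (card_singleton _).le
  have h1 : ∀ w, #(f (w + 1)).toFinset ≤ a * ∑ j ∈ range (w + 1), #(f j).toFinset := fun w =>
    (card_le_card fun s h => by
      cases (f _).mem_toFinset.1 h with
      | mul i l h' =>
        exact mem_biUnion.2 ⟨_, mem_range.2 l, mul_mem_mul (by simp) ((f _).mem_toFinset.2 h')⟩).trans (k (w + 1) _)
  have h2 : ∀ w, ∑ j ∈ range (w + 1), #(f j).toFinset ≤ (a + 1) ^ w := fun w => by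
    induction w with
    | zero => simpa using h0
    | succ w ih => rw [sum_range_succ, pow_succ]; nlinarith [h1 w]
  refine ⟨fun w => (f w).toFinset, fun w s h => (f w).mem_toFinset.2 h, fun w => ⟨fun l => ?_, h0, fun l => ?_⟩⟩
  · obtain ⟨w, rfl⟩ := Nat.exists_eq_succ_of_ne_zero l.ne'
    have : 0 < (a + 1) ^ w := by positivity
    rw [pow_succ]; nlinarith [h1 w, h2 w]
  obtain ⟨w, rfl⟩ := Nat.exists_eq_add_of_le' l
  set A := univ.image (P · 1)
  have h3 : #(f (w + 3)).toFinset ≤ #(A ^ (w + 3)) + a * (a + 1) ^ (w + 1) :=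
    ((card_le_card fun s h => mem_union.2 (((f _).mem_toFinset.1 h).inv.imp_right fun ⟨j, l, i, t, h, e⟩ =>
      mem_biUnion.2 ⟨j, mem_range.2 (by omega), e ▸ mul_mem_mul (by simp) ((f _).mem_toFinset.2 h)⟩)).trans
      (card_union_le _ _)).trans (Nat.add_le_add_left ((k (w + 3) (w + 2)).trans (Nat.mul_le_mul_left _ (h2 _))) _)
  have hA : #A ≤ a := card_image_le
  have h4 : #(A * A) ≤ (a + 1).choose 2 := ((card_le_card (t := A.sym2.image Sym2.mul) fun s h => by
    obtain ⟨x, hx, y, hy, rfl⟩ := mem_mul.1 h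
    exact mem_image.2 ⟨s(x, y), mk_mem_sym2_iff.2 ⟨hx, hy⟩, rfl⟩).trans card_image_le).trans
      ((card_sym2 A).trans_le (Nat.choose_le_choose _ (by omega)))
  have h5 : #(A ^ (w + 3)) ≤ (a + 1) ^ w * a * (a + 1).choose 2 := by
    rw [pow_add _ (w + 1) 2, sq, pow_succ]
    exact card_mul_le.trans (Nat.mul_le_mul (card_mul_le.trans (Nat.mul_le_mul (card_pow_le.trans
      (Nat.pow_le_pow_left (by omega) _)) hA)) h4)
  have h6 : (a + 1).choose 2 * 2 = (a + 1) * a := by simpa using (Nat.add_one_mul_choose_eq a 1).symm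
  have : 0 < (a + 1) ^ w * (a + 1) := by positivity
  calc _ ≤ (a + 1) ^ w * a * ((a + 1).choose 2 * 2) + 2 * (a * (a + 1) ^ (w + 1)) := by nlinarith
    _ < _ := by rw [h6]; ring_nf at this ⊢; omega
end

variable {N p w k s : ℕ} {β γ κ : Fin N → ℕ} {v : Pl N}

/-- The functionals coming from regular classes. -/
def Fn (p : ℕ) (κ : Fin N → ℕ) (φ : (Fin N → ℕ) → ℂ) : Prop :=
  (∀ σ : Perm (Fin N), (∀ j, κ (σ j) % p = κ j % p) → ∀ β, φ (β ∘ σ) = sg σ * φ β) ∧
    ∀ k, 0 < k → ∀ β : Fin N → ℕ, ∑ j, φ (β + Pi.single j (p * k)) = 0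

/-- The common kernel. -/
noncomputable def Kr (p : ℕ) (κ : Fin N → ℕ) : Submodule ℂ (Pl N) := ⨅ φ, ⨅ _ : Fn p κ φ, LinearMap.ker (pair φ)

theorem mem_Kr : v ∈ Kr p κ ↔ ∀ φ, Fn p κ φ → pair φ v = 0 := by simp [Kr]

/-- The variables of one runner. -/
noncomputable def yy (p : ℕ) (κ : Fin N → ℕ) (i : ℕ) (j : Fin N) : Pl N := if κ j % p = i then X j ^ p else 0

/-- The power sums of one runner. -/
noncomputable def PP (p : ℕ) (κ : Fin N → ℕ) (i k : ℕ) : Pl N := ∑ j, yy p κ i j ^ k

theorem PP_eq (i : ℕ) (hk : 0 < k) : PP p κ i k = ∑ j, if κ j % p = i then mono (Pi.single j (p * k)) else 0 := by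
  simp [PP, yy, mono_single, pow_mul, hk.ne']

theorem PP_mul_mem (i : ℕ) (hk : 0 < k) (h : v ∈ Kr p κ) : PP p κ i k * v ∈ Kr p κ := mem_Kr.2 fun φ hφ => by
  refine Eq.trans ?_ (mem_Kr.1 h (fun β => ∑ j, if κ j % p = i then φ (β + Pi.single j (p * k)) else 0)
    ⟨fun σ e β => ?_, fun l hl β => ?_⟩)
  · exact LinearMap.congr_fun (lin_ext (f := pair φ ∘ₗ LinearMap.mulLeft ℂ (PP p κ i k)) fun β => by
      simp [PP_eq i hk, sum_mul, ← mono_add, apply_ite, pair_mono, add_comm]) v
  · rw [mul_sum, ← Equiv.sum_comp σ fun i => sg σ * _]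
    exact sum_congr rfl fun j _ => by rw [e, mul_ite, mul_zero, ← hφ.1 σ e, ← single_comp σ j]; rfl
  · rw [sum_comm]
    exact sum_eq_zero fun j _ => by simp only [sum_ite_irrel, add_right_comm β, hφ.2 l hl, sum_const_zero, ite_self]

/-- The span of the products of weight determined by `s`. -/
noncomputable def UU (p : ℕ) (κ : Fin N → ℕ) (s : ℕ) : Submodule ℂ (Pl N) := Kr p κ ⊔ Submodule.span ℂ
  {v | ∃ w t, In (fun i : Fin (p - 1) => PP p κ (i + 1)) w t ∧ s = ∑ j, κ j + p * w ∧ t * mono κ = v}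

theorem PP_mul_mem_UU (hp : 0 < p) {i : ℕ} (hi : i < p) (hk : 0 < k) (h : v ∈ UU p κ s) :
    PP p κ i k * v ∈ UU p κ (s + p * k) := by
  have a : ∀ i : Fin (p - 1), PP p κ (i + 1) k * v ∈ UU p κ (s + p * k) := fun i => by
    refine (show UU p κ s ≤ (UU p κ _).comap (LinearMap.mulLeft ℂ _) from
      sup_le (fun v h => Submodule.mem_sup_left (PP_mul_mem _ hk h)) (Submodule.span_le.2 ?_)) h
    rintro _ ⟨w, t, h1, rfl, rfl⟩
    exact Submodule.mem_sup_right (Submodule.subset_span ⟨w + k, _, h1.mul i (by omega), by ring, by simp [mul_assoc]⟩)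
  obtain ⟨p, rfl⟩ := Nat.exists_eq_succ_of_ne_zero hp.ne'
  rcases i with _ | i
  · have : PP (p + 1) κ 0 k = psum _ ℂ ((p + 1) * k) - ∑ i : Fin p, PP (p + 1) κ (i + 1) k := by
      rw [eq_sub_iff_add_eq, Fin.sum_univ_eq_sum_range fun i => PP (p + 1) κ (i + 1) k, add_comm,
        ← sum_range_succ' fun i => PP (p + 1) κ i k]
      simp only [PP_eq _ hk]
      rw [sum_comm]
      exact sum_congr rfl fun j _ => by simp [Nat.le_of_lt_succ (Nat.mod_lt _ hp), mono_single]
    rw [this, sub_mul, sum_mul]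
    refine sub_mem (Submodule.mem_sup_left (mem_Kr.2 fun φ hφ => ?_)) (Submodule.sum_mem _ fun i _ => a i)
    rw [pair_psum, funext (hφ.2 k hk)]
    exact LinearMap.congr_fun (lin_ext (g := 0) fun β => pair_mono _ β) v
  · exact a ⟨i, by omega⟩

theorem yy_mul (i : ℕ) (S : Finset (Fin N)) (γ : Fin N → ℕ) : (∏ j ∈ S, yy p κ i j) * mono γ =
    if ∀ j ∈ S, κ j % p = i then mono fun j => γ j + if j ∈ S then p else 0 else 0 := by
  simp only [yy, prod_ite_zero, mono_eq, pow_add, prod_mul_distrib, pow_ite, pow_zero, prod_ite_mem, univ_inter]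
  split_ifs <;> simp [mul_comm]

theorem Core.mono_mem (hp : 0 < p) (h : Core p κ) (e : ∀ j, β j % p = κ j % p) : mono β ∈ UU p κ (∑ j, β j) := by
  induction hs : ∑ j, β j using Nat.strong_induction_on generalizing β with | _ s ih => ?_
  induction hq : ∑ j, β j ^ 2 using Nat.strong_induction_on generalizing β with | _ q ih' => ?_
  by_cases hβ : Injective β
  swap
  · obtain ⟨i, j, a, n⟩ := Function.not_injective_iff.1 hβ
    refine Submodule.mem_sup_left (mem_Kr.2 fun φ hφ => ?_)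
    have := hφ.1 (swap i j) (fun x => apply_swap_eq_self (v := fun j => κ j % p) (by simp only [← e, a]) x) β
    rw [show β ∘ swap i j = β from funext fun x => apply_swap_eq_self a x, sg_swap n] at this
    rw [pair_mono]; linear_combination this / 2
  by_cases c : Core p β
  · obtain ⟨σ, rfl⟩ := h.perm hp c e
    rw [← sub_add_cancel (mono _) (sg σ • mono κ)]
    refine add_mem (Submodule.mem_sup_left (mem_Kr.2 fun φ hφ => by simp [pair_mono, hφ.1 σ e κ]))
      (Submodule.smul_mem _ _ (Submodule.mem_sup_right (Submodule.subset_span ⟨0, 1, .one, ?_, one_mul _⟩)))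
    exact hs.symm.trans (Equiv.sum_comp σ κ)
  obtain ⟨j, h1, h2⟩ : ∃ j, p ≤ β j ∧ ∀ i, β i + p ≠ β j := by simpa [Core, hβ] using c
  let S : Finset (Fin N) := {i | β i % p = β j % p ∧ β j ≤ β i}
  let γ : Fin N → ℕ := fun i => β i - if i ∈ S then p else 0
  have hγ : ∀ i, γ i + (if i ∈ S then p else 0) = β i := fun i => Nat.sub_add_cancel (by
    split_ifs with l
    exacts [h1.trans (mem_filter.1 l).2.2, Nat.zero_le _])
  have hS : 0 < #S := card_pos.2 ⟨j, by simp [S]⟩
  have sm : ∀ T : Finset (Fin N), ∑ i, (γ i + if i ∈ T then p else 0) = ∑ i, γ i + p * #T := fun T => by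
    simp [sum_add_distrib, mul_comm]
  have md : ∀ (T : Finset (Fin N)) i, (γ i + if i ∈ T then p else 0) % p = κ i % p := fun T i => by
    rw [← e, ← hγ]; split_ifs <;> simp
  have s0 : ∑ i, γ i + p * #S = s := by rw [← sm, ← hs]; exact sum_congr rfl fun i _ => hγ i
  let E : ℕ → Pl N := fun k => ∑ T ∈ powersetCard k univ, ∏ i ∈ T, yy p κ (κ j % p) i
  have nw : E #S * mono γ ∈ UU p κ s := by
    have := congrArg (aeval (yy p κ (κ j % p)) · * mono γ) (mul_esymm_eq_sum (Fin N) ℂ #S)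
    simp only [map_mul, map_sum, map_pow, map_neg, map_one, map_natCast, esymm, psum, map_prod, aeval_X] at this
    rw [← Submodule.smul_mem_iff _ (Nat.cast_ne_zero.2 hS.ne' : (#S : ℂ) ≠ 0), Nat.cast_smul_eq_nsmul, nsmul_eq_mul,
      ← mul_assoc, this, mul_sum, sum_mul]
    refine Submodule.sum_mem _ fun a ha => ?_
    have l := (mem_filter.1 ha).2
    have l' := mem_antidiagonal.1 (mem_filter.1 ha).1
    have : PP p κ (κ j % p) a.2 * (E a.1 * mono γ) ∈ UU p κ s := by
      rw [← s0, ← l', mul_add, ← add_assoc]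
      refine PP_mul_mem_UU hp (Nat.mod_lt _ hp) (by omega) (sum_mul _ _ (mono γ) ▸ Submodule.sum_mem _ fun T hT => ?_)
      rw [yy_mul]
      split_ifs
      · exact ih _ (by nlinarith) (md T) (by rw [sm, (mem_powersetCard.1 hT).2])
      · exact zero_mem _
    convert Submodule.smul_mem _ ((-1) ^ (#S + 1) * (-1) ^ a.1) this using 1
    simp only [PP, E, smul_eq_C_mul, map_mul, map_pow, map_neg, map_one]; ring
  rw [sum_mul, ← add_sum_erase _ _ (show S ∈ _ by simp), yy_mul, if_pos fun i hi => by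
    rw [← e, ← e, (mem_filter.1 hi).2.1], funext hγ] at nw
  refine (Submodule.add_mem_iff_left _ (Submodule.sum_mem _ fun T hT => ?_)).1 nw
  rw [yy_mul]
  split_ifs with l
  swap; · exact zero_mem _
  have cT : #T = #S := (mem_powersetCard.1 (mem_of_mem_erase hT)).2
  refine ih' _ ?_ (md T) (by rw [sm, cT, s0]) rfl
  have sq : ∀ T : Finset (Fin N), ∑ i, (γ i + if i ∈ T then p else 0) ^ 2 =
      ∑ i, γ i ^ 2 + p * (2 * ∑ i ∈ T, γ i + p * #T) := fun T => by
    simp [add_sq, sum_add_distrib, mul_sum, mul_add, mul_comm, mul_left_comm]; ring_nf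
  have : ∑ i ∈ T \ S, γ i < ∑ i ∈ S \ T, γ i := calc
    _ < ∑ i ∈ T \ S, (β j - p) := sum_lt_sum_of_nonempty (sdiff_nonempty.2 fun l =>
        ne_of_mem_erase hT (eq_of_subset_of_card_le l cT.ge)) fun i hi => by
      have a := (mem_sdiff.1 hi).2
      have b : β i % p = β j % p := by rw [e, e, l i (mem_sdiff.1 hi).1]
      have c : β i < β j := not_le.1 fun c => a (by simp [S, b, c])
      have := Nat.le_of_dvd (by omega) ((Nat.modEq_iff_dvd' c.le).1 b)
      have := h2 i
      simp [γ, a]; omega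
    _ = ∑ i ∈ S \ T, (β j - p) := by rw [sum_const, sum_const, card_sdiff_comm cT]
    _ ≤ _ := sum_le_sum fun i hi => by
      have a := (mem_sdiff.1 hi).1
      have := (mem_filter.1 a).2.2
      simp [γ, a]; omega
  have a := sum_inter_add_sum_sdiff T S γ
  have b := sum_inter_add_sum_sdiff S T γ
  rw [← hq, ← funext hγ, sq, sq, cT]
  rw [inter_comm] at b
  exact Nat.add_lt_add_left (Nat.mul_lt_mul_of_pos_left (by omega) hp) _

end Cfsg.Lib.SnCh
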