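import Cfsg.Agent.Lib.SnCh.Core

/-! Degrees, and the values of some special shapes. -/

set_option autoImplicit false
set_option maxHeartbeats 400000

namespace Cfsg.Lib.SnCh

open Finset Equiv Function

variable {N p w n k : ℕ} {β κ a : Fin N → ℕ} {μ ρ : Multiset ℕ}

theorem exists_deg (hβ : Injective β) (hs : ∑ j, β j = n + ∑ i : Fin N, (i : ℕ)) :
    ∃ d : ℤ, d.natAbs * hook 1 β = n.factorial ∧ xv β (Multiset.replicate n 1) = d := by
  have h : Core 1 fun i : Fin N => (i : ℕ) := ⟨Fin.val_injective, fun j l => ⟨⟨j - 1, by omega⟩, by simp at l ⊢; omega⟩⟩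
  have e : ∀ j, β j % 1 = (j : ℕ) % 1 := by simp [Nat.mod_one]
  obtain ⟨d, h1, h2⟩ := h.exists_int one_pos e (w := n) (by omega)
  refine ⟨d, h.natAbs_mul one_pos hβ e h1, ?_⟩
  simpa [xv_zero, sum_eq_single (1 : Perm (Fin N)) (fun v _ n =>
    if_neg fun e : (fun i => (v i : ℕ)) = fun i : Fin N => (i : ℕ) => n (Equiv.ext fun i => Fin.ext (congrFun e i))), sg]
    using h2 0

theorem xv_one_ne_zero (hβ : Injective β) (hs : ∑ j, β j = n + ∑ i : Fin N, (i : ℕ)) :
    xv β (Multiset.replicate n 1) ≠ 0 := by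
  obtain ⟨d, h1, h2⟩ := exists_deg hβ hs
  rw [h2, Int.cast_ne_zero]
  rintro rfl
  exact n.factorial_ne_zero (by simpa using h1.symm)

theorem Core.main (hp : p.Prime) (h : Core p κ) (hβ : Injective β) (e : ∀ j, β j % p = κ j % p)
    (hs : ∑ j, β j = ∑ j, κ j + p * w) (hn : ∑ j, β j = n + ∑ i : Fin N, (i : ℕ)) :
    ∃ c d : ℤ, c.natAbs ∣ w.factorial ∧ (∀ ρ, xv β (Multiset.replicate w p + ρ) = c * xv κ ρ) ∧
      xv β (Multiset.replicate n 1) = d ∧ d.natAbs.factorization p + w + w.factorial.factorization p =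
        n.factorial.factorization p + c.natAbs.factorization p := by
  obtain ⟨c, h1, h2⟩ := h.exists_int hp.pos e hs
  obtain ⟨d, h3, h4⟩ := exists_deg hβ hn
  replace h1 := h.natAbs_mul hp.pos hβ e h1
  have a := mul_ne_zero_iff.1 (h1 ▸ w.factorial_ne_zero)
  have b := mul_ne_zero_iff.1 (h3 ▸ n.factorial_ne_zero)
  refine ⟨c, d, ⟨_, h1.symm⟩, h2, h4, ?_⟩
  rw [← h1, ← h3, Nat.factorization_mul a.1 a.2, Nat.factorization_mul b.1 b.2, Finsupp.add_apply, Finsupp.add_apply,
    h.factorization_hook hp hβ e hs]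
  ring

theorem Core.xv_eq_zero (hp : 0 < p) (h : Core p κ) (hk : p ∣ k) (h0 : 0 < k) : xv κ (k ::ₘ μ) = 0 := by
  obtain ⟨k, rfl⟩ := hk
  refine by_contra fun n => ?_
  obtain ⟨j, h1, h2⟩ := exists_of_cons n
  obtain ⟨w, h3, -⟩ := h.exists_wt hp (inj_of_xv h2) (sub_mod h1)
  have := sum_sub_single h1
  omega

/-- The last bead on its runner. -/
def Top (p : ℕ) (κ : Fin N → ℕ) (j : Fin N) : Prop := ∀ i, κ i % p = κ j % p → κ i ≤ κ j

theorem exists_top (p : ℕ) (κ : Fin N → ℕ) (j : Fin N) : ∃ t, κ t % p = κ j % p ∧ Top p κ t := by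
  obtain ⟨t, h1, h2⟩ := exists_max_image {i | κ i % p = κ j % p} κ ⟨j, by simp⟩
  exact ⟨t, (mem_filter.1 h1).2, fun i e => h2 i (by simpa [e] using h1)⟩

theorem Core.row_cons (hp : 0 < p) (h : Core p κ) (ha : ∀ j, a j ≠ 0 → Top p κ j) :
    xv (fun i => κ i + p * a i) (p * k ::ₘ μ) =
      ∑ j, if k ≤ a j then xv (fun i => κ i + p * (a - Pi.single j k : Fin N → ℕ) i) μ else 0 := by
  rw [xv_cons]
  refine sum_congr rfl fun j _ => ?_
  by_cases l : k ≤ a j
  · have := Nat.mul_le_mul_left p l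
    rw [if_pos l, if_pos (by omega)]
    refine congrArg (xv · μ) (funext fun i => ?_)
    by_cases e : i = j <;> simp [e, Nat.mul_sub]; omega
  · have := Nat.mul_lt_mul_of_pos_left (not_le.1 l) hp
    refine (ite_eq_right_iff.2 fun l' => by_contra fun n => ?_).trans (if_neg l).symm
    have e : κ j % p = (κ j + p * a j - p * k) % p := by simp [Nat.sub_mul_mod l']
    obtain ⟨i, hi⟩ := h.exists_of_le e (by omega)
    have b : i ≠ j := by rintro rfl; omega
    have c : a i = 0 := by_contra fun c => by have := ha i c j (hi ▸ e); omega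
    exact b (inj_of_xv n (by simp [b, c, hi]))

theorem top_sub (ha : ∀ j, a j ≠ 0 → Top p κ j) (i : Fin N) (k : ℕ) (j : Fin N)
    (h : (a - Pi.single i k : Fin N → ℕ) j ≠ 0) : Top p κ j := ha j fun e => h (by simp [e])

theorem Core.row_val (hp : 0 < p) (h : Core p κ) (ha : ∀ j, a j ≠ 0 → Top p κ j) (hs : ∑ j, a j = w) :
    xv (fun i => κ i + p * a i) (Multiset.replicate w p + ρ) =
      (w.factorial / (∏ j, (a j).factorial : ℕ) : ℚ) * xv κ ρ := by
  induction w generalizing a with
  | zero => simp [show a = 0 from funext fun j => sum_eq_zero_iff.1 hs j (mem_univ j)]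
  | succ w ih =>
    have := h.row_cons (k := 1) (μ := Multiset.replicate w p + ρ) hp ha
    rw [mul_one] at this
    rw [Multiset.replicate_succ, Multiset.cons_add, this, Nat.factorial_succ, ← hs, Nat.cast_mul, Nat.cast_sum, sum_mul,
      Finset.sum_div, Rat.cast_sum, sum_mul]
    refine sum_congr rfl fun j _ => ?_
    split_ifs with l
    · rw [ih (top_sub ha j 1) (by have := sum_sub_single l; omega), ← mul_prod_erase _ _ (mem_univ j),
        ← mul_prod_erase _ (fun j => (a j).factorial) (mem_univ j), prod_congr rfl fun i hi => show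
          ((a - Pi.single j 1 : Fin N → ℕ) i).factorial = (a i).factorial by simp [ne_of_mem_erase hi],
        ← Nat.mul_factorial_pred (n := a j) (by omega)]
      have : (a j : ℚ) ≠ 0 := Nat.cast_ne_zero.2 (by omega)
      simp [mul_assoc, mul_div_mul_left _ _ this]
    · simp [show a j = 0 by omega]

theorem Core.row_two (hp : 0 < p) (h : Core p κ) (ha : ∀ j, a j ≠ 0 → Top p κ j) (hs : ∑ j, a j = w + k) {j : Fin N}
    (hj : k ≤ a j) (hρ : xv κ ρ ≠ 0) : xv (fun i => κ i + p * a i) (p * k ::ₘ (Multiset.replicate w p + ρ)) ≠ 0 := by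
  rw [h.row_cons hp ha, sum_congr rfl fun j _ => show _ = ((if k ≤ a j then w.factorial /
      (∏ i, ((a - Pi.single j k : Fin N → ℕ) i).factorial : ℕ) else 0 : ℚ) : ℂ) * xv κ ρ from ?_, ← sum_mul, ← Rat.cast_sum]
  · refine mul_ne_zero (Rat.cast_ne_zero.2 (sum_pos' (fun _ _ => by positivity) ⟨j, mem_univ j, ?_⟩).ne') hρ
    rw [if_pos hj]; positivity
  · split_ifs with l
    · exact h.row_val hp (top_sub ha j k) (by have := sum_sub_single l; omega)
    · simp

theorem Core.hook_val (hp : 0 < p) (h : Core p κ) {s t : Fin N} (ht : Top p κ t) (hs : κ s + p = κ t) (w : ℕ) :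
    xv (fun i => κ i + p * (Pi.single t w + Pi.single s 1 : Fin N → ℕ) i) (Multiset.replicate (w + 1) p + ρ) =
      w * xv κ ρ := by
  have n : s ≠ t := by rintro rfl; omega
  induction w with
  | zero => exact (by_contra fun e => n (inj_of_xv e (by simp [n.symm, hs]))).trans (by simp)
  | succ w ih =>
    have := h.row_val (ρ := ρ) (a := Pi.single t (w + 1)) hp (fun j e => by
      rwa [show j = t from by_contra fun f => e (by simp [f])]) (w := w + 1) (by simp)
    rw [prod_eq_single t (fun i _ e => by simp [e]) (by simp), Pi.single_eq_same, div_self (by positivity)] at this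
    rw [Multiset.replicate_succ, Multiset.cons_add, xv_cons, sum_eq_add t s n.symm
      (fun j _ e => ite_eq_right_iff.2 fun l => by_contra fun f => ?_) (by simp) (by simp), if_pos (by simp; nlinarith),
      if_pos (by simp [n]), Nat.cast_succ, add_one_mul, ← ih, ← one_mul (xv κ ρ), ← Rat.cast_one, ← this]
    · congr 2 <;> funext i <;> by_cases e : i = t <;> by_cases e' : i = s <;> simp [e, e', n, n.symm, mul_add_one] <;> omega
    obtain ⟨i, hi⟩ := h.2 j (by simpa [e.1, e.2] using l)
    have b : i ≠ j := by rintro rfl; omega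
    have c : i ≠ t := by rintro rfl; have := ht j (by simp [← hi]); omega
    have d : i ≠ s := by rintro rfl; exact e.1 (h.1 (by omega))
    exact b (inj_of_xv f (by simp [b, c, d, e.1, e.2]; omega))

end Cfsg.Lib.SnCh
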