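import Cfsg.Agent.Lib.SnCh.Key
import Cfsg.Agent.Lib.SnCh.Rank
import Cfsg.Agent.Lib.SnCh.Rows
import Cfsg.Agent.Lib.Modular.Rank

/-! Nakayama's conjecture: blocks, defect groups and heights for the symmetric groups. -/

set_option autoImplicit false
set_option maxHeartbeats 400000

namespace Cfsg.Lib.SnCh

open Finset Equiv Cfsg.Lib.Char Cfsg.Lib.Block Cfsg.Lib.Modular Cfsg.Lib.Transfer Subgroup MonoidAlgebra Function
open scoped ComplexConjugate

variable {p : ℕ} [hp : Fact p.Prime] {M : Ideal AlgInt} [Modular p M] {N w : ℕ} {β κ : Fin N → ℕ}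
  {α : Type*} [DecidableEq α] [Fintype α] {g z : Perm α} {ψ : IrrCharacter (Perm α)} {B : Set (IrrCharacter (Perm α))}

variable (α p) in
/-- The characters with a given core. -/
def Cl (κ : Fin N → ℕ) : Set (IrrCharacter (Perm α)) := {ψ | ∃ β, (∀ j, β j % p = κ j % p) ∧ Lab β ψ}

theorem Cl_mem_SG (hN : Fintype.card α ≤ N) (κ : Fin N → ℕ) : fblk (Cl p α κ) ∈ SG (Perm α) M := by
  classical
  refine fblk_mem_SG_of_orth (p := p) fun x y hx hy => ?_
  have := sum_filter_ch hN (Q := fun β => ∃ σ : Perm (Fin N), ∀ j, β (σ j) % p = κ j % p)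
    (fun β τ ⟨σ, h⟩ => ⟨τ⁻¹ * σ, by simpa using h⟩) x y
  obtain ⟨k, h1, h2⟩ := dvd_orderOf_iff.1 hx
  obtain ⟨μ, e⟩ := Multiset.exists_cons_of_mem h1
  have a := pair_ap_cons (w := fun β => if ∃ σ : Perm (Fin N), ∀ j, β (σ j) % p = κ j % p then 1 else 0)
    (Nat.pos_of_ne_zero fun e => zero_notMem_typ x (e ▸ h1)) ((typ_sum y).trans_le hN) (fun β i => if_congr
      (exists_congr fun σ => forall_congr' fun j => by
        obtain ⟨k, rfl⟩ := h2
        by_cases e : σ j = i <;> simp [e]) rfl rfl) (ap N μ)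
  rw [← ap_cons, ← e, pair_typ, Multiset.count_eq_zero.2 fun h => hy (dvd_orderOf_iff.2 ⟨k, h, h2⟩)] at a
  simp only [ite_mul, one_mul, zero_mul, mul_ite, mul_zero, ← sum_filter, Nat.cast_zero] at a
  refine Eq.trans (sum_congr (filter_congr fun ψ _ => ⟨fun ⟨β, h1, h2⟩ => ⟨β, ⟨1, h1⟩, h2⟩,
    fun ⟨β, ⟨σ, h1⟩, h2⟩ => ⟨β ∘ σ, h1, h2.comp σ⟩⟩) fun _ _ => rfl)
    ((mul_eq_zero.1 (this.symm.trans (by convert a; rfl))).resolve_left (Nat.cast_ne_zero.2 N.factorial_ne_zero))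

/-- The data of a core and a weight. -/
structure Dat (p : ℕ) (α : Type*) [Fintype α] (κ : Fin N → ℕ) (w : ℕ) : Prop where
  core : Core p κ
  le : Fintype.card α + p < N
  sum : Fintype.card α + ∑ i : Fin N, (i : ℕ) = ∑ j, κ j + p * w

namespace Dat
variable (h : Dat p α κ w)
include h

omit hp [DecidableEq α] in
theorem hN : Fintype.card α ≤ N := by have := h.le; omega

theorem rank : (0 < w → blockRank p (Cl p α κ) < p ^ w) ∧ (3 ≤ w → 2 * blockRank p (Cl p α κ) < p ^ w) := by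
  classical
  obtain ⟨F, h1, h2⟩ := exists_cover fun i : Fin (p - 1) => PP p κ (i + 1)
  let Φ : Pl N →ₗ[ℂ] Perm α → ℂ := LinearMap.pi fun g => if p ∣ orderOf g then 0 else pair (xv · (typ g))
  have : blockRank p (Cl p α κ) ≤ #(F w) := by
    refine le_trans (Submodule.finrank_mono (Submodule.span_le.2 ?_))
      ((finrank_span_finset_le_card ((F w).image fun t => Φ (t * mono κ))).trans card_image_le)
    rintro _ ⟨ψ, ⟨β, a, b⟩, rfl⟩
    obtain ⟨c, -, e⟩ := b.exists_eq h.hN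
    have : pRegularPart p (ψ : Perm α → ℂ) = c • Φ (mono β) := funext fun g => by
      by_cases r : p ∣ orderOf g <;> simp [Φ, r, pRegularPart_of_dvd, pRegularPart_of_not_dvd, pair_mono, e, ch]
    simp only [this]
    refine Submodule.smul_mem _ _ (Submodule.mem_comap.1 ((show UU p κ _ ≤ Submodule.comap Φ _ from
      sup_le (fun v hv => ?_) (Submodule.span_le.2 ?_)) (h.core.mono_mem hp.out.pos a)))
    · refine Submodule.mem_comap.2 ((funext fun g => ?_ : Φ v = 0) ▸ zero_mem _)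
      by_cases r : p ∣ orderOf g
      · simp [Φ, r]
      simpa [Φ, r] using mem_Kr.1 hv _ ⟨fun σ _ β => xv_comp σ β _, fun k hk β => by
        rw [heis (mul_pos hp.out.pos hk) ((typ_sum g).trans_le h.hN),
          Multiset.count_eq_zero.2 fun l => r (dvd_orderOf_iff.2 ⟨_, l, dvd_mul_right _ _⟩)]; simp⟩
    · rintro _ ⟨w', t, c, d, rfl⟩
      obtain rfl : w = w' := Nat.eq_of_mul_eq_mul_left hp.out.pos (by have := mem_bs.1 b.mem; have := h.sum; omega)
      exact Submodule.subset_span (mem_coe.2 (mem_image_of_mem _ (h1 _ _ c)))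
  have e : Fintype.card (Fin (p - 1)) + 1 = p := by rw [Fintype.card_fin, Nat.sub_add_cancel hp.out.pos]
  rw [e] at h2
  exact ⟨fun l => this.trans_lt ((h2 w).1 l), fun l => by have := (h2 w).2.2 l; omega⟩

omit hp [DecidableEq α] in
theorem exists_sum : ∃ m, ∑ j, κ j = m + ∑ i : Fin N, (i : ℕ) ∧ Fintype.card α = p * w + m := by
  obtain ⟨m, e, -⟩ := Core.exists_wt (κ := fun i : Fin N => (i : ℕ)) one_pos
    ⟨Fin.val_injective, fun j l => ⟨⟨j - 1, by omega⟩, by simp at l ⊢; omega⟩⟩ h.core.1 (by simp [Nat.mod_one])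
  exact ⟨m, by omega, by have := h.sum; omega⟩

theorem exists_z : ∃ z : Perm α, z.cycleType = .replicate w p := by
  obtain ⟨m, -, e⟩ := h.exists_sum
  exact (Perm.exists_with_cycleType_iff α).2 ⟨by simp [e, mul_comm], fun a ha =>
    Multiset.eq_of_mem_replicate ha ▸ hp.out.two_le⟩

theorem val (e : ∀ j, β j % p = κ j % p) (l : Lab β ψ) : ∃ c : ℤ, c.natAbs ∣ w.factorial ∧
    (∀ ρ, xv β (Multiset.replicate w p + ρ) = c * xv κ ρ) ∧ (charDegree (ψ : Perm α → ℂ)).factorization p + w +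
      w.factorial.factorization p = (Nat.card (Perm α)).factorization p + c.natAbs.factorization p := by
  obtain ⟨c, d, h1, h2, h3, h4⟩ := h.core.main hp.out l.inj e ((mem_bs.1 l.mem).trans h.sum) (mem_bs.1 l.mem)
  obtain ⟨s, h5, h6⟩ := l.exists_eq h.hN
  refine ⟨c, h1, h2, ?_⟩
  rw [Nat.card_perm, Nat.card_eq_fintype_card, ← h4]
  congr 4
  have := congrArg (‖·‖) ((apply_one_eq_charDegree ψ.2.isCharacter).symm.trans (h6 1))
  rw [ch, typ_one, h3] at this
  apply Nat.cast_injective (R := ℝ)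
  rcases mul_self_eq_one_iff.1 h5 with rfl | rfl <;> simpa using this

theorem lam_eq (hz : z.cycleType = .replicate w p) : ∃ ξ : IrrCharacter (Perm {x // x ∉ z.support}), ∀ ψ ∈ Cl p α κ,
    lam M (ξ : _ → ℂ) (res (io z) (br (zpowers z) (eblk M (blockOf M (ψ : Perm α → ℂ))))) = 1 := by
  obtain ⟨m, h1, h2⟩ := h.exists_sum
  have e : Fintype.card {x // x ∉ z.support} = m := by
    rw [Fintype.card_subtype_compl, Fintype.card_coe, ← Perm.sum_cycleType, hz, h2]; simp [mul_comm]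
  obtain ⟨ξ, hξ⟩ := exists_lab (α := {x // x ∉ z.support}) (β := κ) (ne_iff.2 ⟨1, by
    rw [ch, typ_one, e]; exact xv_one_ne_zero h.core.1 h1⟩)
  obtain ⟨s, h3, h4⟩ := hξ.exists_eq (by have := h.le; omega)
  refine ⟨ξ, fun ψ ⟨β, a, b⟩ => ?_⟩
  obtain ⟨c, h5, h6, -⟩ := h.val a b
  obtain ⟨t, h7, h8⟩ := b.exists_eq h.hN
  refine lam_res_br (Perm.pow_prime_eq_one_iff.2 fun k hk => Multiset.eq_of_mem_replicate (hz ▸ hk)) (isPBlock_blockOf ψ)
    (mem_blockOf_self ψ) (c := t * c * s) (mul_ne_zero (mul_ne_zero (left_ne_zero_of_mul_eq_one h7) ?_)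
      (left_ne_zero_of_mul_eq_one h3)) fun y => ?_
  · rw [Int.cast_ne_zero]; rintro rfl; exact w.factorial_ne_zero (by simpa using h5)
  · rw [h8, h4, ch, ch, typ_io, hz, h6]; linear_combination (-t * c * xv κ (typ y)) * h3

variable (M) in
theorem isPBlock : IsPBlock M (Cl p α κ) := by
  obtain ⟨z, hz⟩ := h.exists_z
  obtain ⟨ξ, hξ⟩ := h.lam_eq (M := M) hz
  have key : ∀ ψ ∈ Cl p α κ, Cl p α κ = blockOf M (ψ : Perm α → ℂ) := fun ψ a =>
    Set.Subset.antisymm (fun φ b => eq_of_lam_res_br (Perm.pow_prime_eq_one_iff.2 fun k hk =>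
      Multiset.eq_of_mem_replicate (hz ▸ hk)) (isPBlock_blockOf φ) (isPBlock_blockOf ψ) (hξ φ b) (hξ ψ a) ▸
        mem_blockOf_self φ) (blockOf_subset_of_fblk_mem (Cl_mem_SG h.hN κ) a)
  obtain ⟨m, h1, h2⟩ := h.exists_sum
  obtain ⟨t, -, ht⟩ := exists_top p κ ⟨0, by have := h.le; omega⟩
  obtain ⟨g, hg⟩ := exists_typ (α := α) (μ := .replicate w p + .replicate m 1)
    (by simp [Multiset.mem_replicate, hp.out.pos.ne]) (by simp [h2, mul_comm])
  obtain ⟨ψ, l⟩ := exists_lab (α := α) (β := fun i => κ i + p * (Pi.single t w : Fin N → ℕ) i) (ne_iff.2 ⟨g, by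
    rw [ch, hg, h.core.row_val hp.out.pos (fun j e => by
      rwa [show j = t from by_contra fun f => e (by simp [f])]) (by simp)]
    exact mul_ne_zero (Rat.cast_ne_zero.2 (by positivity)) (xv_one_ne_zero h.core.1 h1)⟩)
  exact ⟨ψ, key ψ ⟨_, by simp, l⟩⟩

theorem br_ne_zero (hz : z.cycleType = .replicate w p) {Q : Subgroup (Perm α)} (hQ : ∀ y ∈ Q, ∀ x ∉ z.support, y x = x) :
    br Q (eblk M (Cl p α κ)) ≠ 0 := by
  obtain ⟨ξ, hξ⟩ := h.lam_eq (M := M) hz
  obtain ⟨ψ, a⟩ := (h.isPBlock M).nonempty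
  exact (h.isPBlock M).eq_blockOf a ▸ br_ne_zero_of_lam (hξ ψ a) hQ

theorem exists_defectGroup (hz : z.cycleType = .replicate w p) :
    blockDefect p (Cl p α κ) = w + w.factorial.factorization p ∧
      ∃ Q, IsDefectGroup p M (Cl p α κ) Q ∧ ∀ y ∈ Q, ∀ x ∉ z.support, y x = x := by
  have hB := h.isPBlock M
  obtain ⟨P⟩ : Nonempty (Sylow p (Perm {x // x ∈ z.support})) := inferInstance
  have a : ∀ y ∈ P.1.map Perm.ofSubtype, ∀ x ∉ z.support, y x = x := by
    rintro _ ⟨y, -, rfl⟩ x hx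
    exact Perm.ofSubtype_apply_of_not_mem y hx
  have b : Nat.card (P.1.map Perm.ofSubtype) = p ^ (w + w.factorial.factorization p) := by
    rw [card_map_of_injective Perm.ofSubtype_injective, P.card_eq_multiplicity, Nat.card_perm, Nat.card_eq_fintype_card,
      Fintype.card_coe, ← Perm.sum_cycleType, hz, Multiset.sum_replicate, smul_eq_mul, mul_comm,
      Nat.factorization_def _ hp.out, Nat.factorization_def _ hp.out, padicValNat_factorial_mul, add_comm]
  obtain ⟨ψ, ⟨β, c, d⟩, e⟩ := exists_height_zero p hB.nonempty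
  obtain ⟨c', -, -, f⟩ := h.val c d
  have := factorization_degree_add_defect (p := p) (B := Cl p α κ) ⟨β, c, d⟩
  have g := hB.isDefectGroup_of_card_eq (P.2.map _) (h.br_ne_zero hz a) (b ▸ Nat.pow_le_pow_right hp.out.pos (by omega))
  exact ⟨Nat.pow_right_injective hp.out.two_le ((hB.card_defectGroup g).symm.trans b), _, g, a⟩

include M in
theorem defect : blockDefect p (Cl p α κ) = w + w.factorial.factorization p :=
  h.exists_z.elim fun _ hz => (h.exists_defectGroup (M := M) hz).1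

include M in
theorem height (e : ∀ j, β j % p = κ j % p) (l : Lab β ψ) : ∃ c : ℤ, c.natAbs ∣ w.factorial ∧
    (∀ ρ, xv β (Multiset.replicate w p + ρ) = c * xv κ ρ) ∧
      blockHeight p (Cl p α κ) (ψ : Perm α → ℂ) = c.natAbs.factorization p := by
  obtain ⟨c, h1, h2, h3⟩ := h.val e l
  have := factorization_degree_add_defect (p := p) (B := Cl p α κ) ⟨β, e, l⟩
  have := h.defect (M := M)
  exact ⟨c, h1, h2, by omega⟩

theorem exists_supp {D : Subgroup (Perm α)} (hD : IsDefectGroup p M (Cl p α κ) D) :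
    ∃ z : Perm α, z.cycleType = .replicate w p ∧ ∀ y ∈ D, ∀ x ∉ z.support, y x = x := by
  obtain ⟨z, hz⟩ := h.exists_z
  obtain ⟨-, Q, a, b⟩ := h.exists_defectGroup (M := M) hz
  obtain ⟨u, rfl⟩ := (h.isPBlock M).exists_conj_eq a hD
  refine ⟨u * z * u⁻¹, by rw [Perm.cycleType_conj, hz], ?_⟩
  rintro _ ⟨y, hy, rfl⟩ x hx
  simp [b y hy (u.symm x) fun l => hx (by simpa [Perm.support_conj] using l)]

end Dat

theorem exists_dat (hB : IsPBlock M B) : ∃ (N : ℕ) (κ : Fin N → ℕ) (w : ℕ), Dat p α κ w ∧ B = Cl p α κ := by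
  obtain ⟨ψ, a⟩ := hB.nonempty
  obtain ⟨β, l⟩ := exists_lab' (N := Fintype.card α + p + 1) (by omega) ψ
  obtain ⟨κ, w, h1, h2, h3, -⟩ := exists_core hp.out.pos l.inj
  have h : Dat p α κ w := ⟨h1, by omega, (mem_bs.1 l.mem).symm.trans h3⟩
  exact ⟨_, κ, w, h, hB.eq_of_mem (h.isPBlock M) a ⟨β, h2, l⟩⟩

end Cfsg.Lib.SnCh
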