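import Cfsg.Agent.Lib.SnCh.Naka
import Cfsg.Prelude.Def_CaseTheorems

/-! Subgroups of the defect groups. -/

set_option autoImplicit false
set_option maxHeartbeats 400000

namespace Cfsg.Lib.SnCh

open Finset Equiv Cfsg.Lib.Char Cfsg.Lib.Block Cfsg.Lib.Modular Cfsg.Lib.Transfer Subgroup Function

variable {p : ℕ} [hp : Fact p.Prime] {M : Ideal AlgInt} [Modular p M] {N w k s : ℕ} {κ : Fin N → ℕ}
  {α : Type*} [DecidableEq α] [Fintype α] {V : Type} [Group V] [Fintype V] [DecidableEq V]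

/-- `k` independent regular copies of `V`. -/
def Reg (φ : (Fin k → V) →* Perm α) : Prop := Injective φ ∧
  (∀ v, Perm.sign (φ v) = ∏ i, Perm.sign (MulAction.toPerm (v i) : Perm V)) ∧
    ∀ x, ∃ S : Finset (Fin k), #S ≤ 1 ∧ ∀ v, (∀ i ∈ S, v i = 1) → φ v x = x

theorem exists_reg (A : Finset α) (h : k * Fintype.card V ≤ #A) :
    ∃ φ : (Fin k → V) →* Perm α, Reg φ ∧ ∀ v, ∀ x ∉ A, φ v x = x := by
  obtain ⟨ι, hι⟩ := Embedding.exists_of_card_le_finset (α := Fin k × V) (s := A) (by simpa)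
  let ψ : (Fin k → V) →* Perm (Fin k × V) := MonoidHom.mk' (fun v => prodCongrRight fun i => MulAction.toPerm (v i))
    fun v v' => Equiv.ext fun x => by simp [prodCongrRight, mul_assoc]
  refine ⟨(Perm.viaEmbeddingHom ι).comp ψ, ⟨(Perm.viaEmbeddingHom_injective ι).comp fun v v' e => funext fun i => ?_,
    fun v => ?_, fun x => ?_⟩, fun v x hx => Perm.viaEmbedding_apply_of_notMem _ ι x fun l => hx (hι l)⟩
  · simpa [ψ] using congrArg (· (i, 1)) e
  · exact (@Perm.sign_extendDomain _ _ _ _ _ _ (ψ v) _ (fun _ => Classical.propDecidable _) (ofInjective ι.1 ι.2)).trans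
      (Perm.sign_prodCongrRight fun i => MulAction.toPerm (v i))
  · by_cases l : x ∈ Set.range ι
    · obtain ⟨y, rfl⟩ := l
      exact ⟨{y.1}, by simp, fun v hv => (Perm.viaEmbedding_apply _ ι y).trans (by simp [ψ, prodCongrRight, hv])⟩
    · exact ⟨∅, by simp, fun v _ => Perm.viaEmbedding_apply_of_notMem _ ι x l⟩

theorem Dat.exists_reg (h : Dat p α κ w) {D : Subgroup (Perm α)} (hD : IsDefectGroup p M (Cl p α κ) D)
    (hV : IsPGroup p V) (hk : k * Fintype.card V ≤ p * w) : ∃ φ : (Fin k → V) →* Perm α, Reg φ ∧ ∀ v, φ v ∈ D := by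
  obtain ⟨z, hz⟩ := h.exists_z
  obtain ⟨φ, ⟨h1, h2, h3⟩, h4⟩ := SnCh.exists_reg (V := V) (k := k) z.support (by
    rwa [← Perm.sum_cycleType, hz, Multiset.sum_replicate, smul_eq_mul, mul_comm w])
  obtain ⟨n, hn⟩ := hV.exists_card_eq
  obtain ⟨u, hu⟩ := ((h.isPBlock M).br_ne_zero_iff hD (φ.range_eq_map ▸ (IsPGroup.of_card (n := n * k) (by
    rw [card_top, Nat.card_fun, hn, pow_mul, Nat.card_fin])).map φ)).1 (h.br_ne_zero hz (by rintro _ ⟨v, rfl⟩; exact h4 v))
  refine ⟨(MulAut.conj u).toMonoidHom.comp φ, ⟨(MulAut.conj u).injective.comp h1, by simp [h2, mul_right_comm], fun x => ?_⟩,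
    fun v => conj_le_iff.1 hu _ ⟨v, rfl⟩⟩
  obtain ⟨S, a, b⟩ := h3 (u.symm x)
  exact ⟨S, a, fun v hv => by simp [b v hv]⟩

omit hp in
theorem card_le_of_sect {G W : Type*} [Group G] [CommGroup W] (h : SectionalPRankLE p s G) {f : W →* G}
    (hf : Injective f) (hW : ∀ x : W, x ^ p = 1) : Nat.card W ≤ p ^ s := by
  let g := (QuotientGroup.quotientBot (G := (⊤ : Subgroup G))).symm.toMonoidHom.comp (topEquiv.symm.toMonoidHom.comp f)
  refine (Nat.card_congr (MonoidHom.ofInjective (f := g) ?_).toEquiv).trans_le (h ⊤ ⊥ g.range inferInstance ?_)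
  · exact QuotientGroup.quotientBot.symm.injective.comp (topEquiv.symm.injective.comp hf)
  · rintro _ ⟨x, rfl⟩
    rw [← map_pow, hW, map_one]

theorem Dat.exists_elem (h : Dat p α κ w) {D : Subgroup (Perm α)} (hD : IsDefectGroup p M (Cl p α κ) D) :
    ∃ φ : (Fin w → Multiplicative (ZMod p)) →* Perm α, Reg φ ∧ ∀ v, φ v ∈ D :=
  h.exists_reg hD (.of_card (n := 1) (by simp)) (by simp [mul_comm])

theorem pow_elem (x : Fin w → Multiplicative (ZMod p)) : x ^ p = 1 := funext fun i => by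
  simpa using pow_card_eq_one' (x := x i)

end Cfsg.Lib.SnCh
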